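import Groth.Agent.L25.SplitSub.Map
import Groth.Agent.L25.HomScheme.ChartHom

/-!
# Homomorphisms of split groups are locally given by maps of characters
-/

set_option autoImplicit false
universe u

open CategoryTheory CategoryTheory.Limits MonoidalCategory CartesianMonoidalCategory AlgebraicGeometry
open scoped MonObj

set_option backward.isDefEq.respectTransparency.types false
set_option linter.style.haveILetI false

noncomputable section

namespace Groth.L25.SplitSub

open Groth.L25.Cocycle Groth.L25.HomScheme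

variable {S : Scheme.{u}} {M N : Type} [AddCommGroup M] [AddCommGroup N]

/-- The local form of a homomorphism of split groups. -/
theorem exists_local_DSmap [Monoid.FG (Multiplicative M)] (u : Red.DS S N ⟶ Red.DS S M) [IsMonHom u] (s : S) :
    ∃ U : S.Opens, s ∈ U ∧ ∃ φ : M →+ N, ∀ (T : Over S), (∀ y, T.hom y ∈ U) →
      ∀ t : T ⟶ Red.DS S N, t ≫ u = t ≫ Red.DSmap S φ := by
  obtain ⟨_, ⟨V, hV, rfl⟩, hsV, -⟩ := S.isBasis_affineOpens.exists_subset_of_mem_open (Set.mem_univ s) isOpen_univ
  let R : Type u := Γ(S, V)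
  let j : Spec (CommRingCat.of R) ⟶ S := hV.fromSpec
  obtain ⟨p, hp⟩ : s ∈ Set.range j := by
    show s ∈ Set.range hV.fromSpec
    rw [hV.range_fromSpec]
    exact hsV
  haveI : IsAffineHom (Red.DS S N).hom :=
    MorphismProperty.pullback_snd _ _ (inferInstanceAs (IsAffineHom (Spec.map (CommRingCat.ofHom
      (algebraMap (ULift.{u} ℤ) (MonoidAlgebra (ULift.{u} ℤ) (Multiplicative N)))))))
  let e := stdChart j N
  let e' := stdChart j M
  let x : Red.DS S N ⊗ X j R ⟶ Red.DS S M := fst _ _ ≫ u
  have hx : AutFam.IsHomFamily (Red.DS S N) (Red.DS S M) x := by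
    intro Y g₁ g₂ t
    simp only [x, lift_fst_assoc, MonObj.mul_comp]
  obtain ⟨f, hf, φ', hφ'⟩ := exists_local_family e e' x hx p
  let φ : M →+ N := AddMonoidHom.toMultiplicative.symm φ'
  let D : Type u := Localization.Away f
  let jD : Spec (CommRingCat.of D) ⟶ S := Spec.map (CommRingCat.ofHom (algebraMap R D)) ≫ j
  haveI : IsOpenImmersion (Spec.map (CommRingCat.ofHom (algebraMap R D))) :=
    IsOpenImmersion.of_isLocalization f
  refine ⟨jD.opensRange, ?_, φ, fun T hT t => ?_⟩
  · obtain ⟨q, hq⟩ : p ∈ Set.range (PrimeSpectrum.comap (algebraMap R D)) := by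
      rw [PrimeSpectrum.localization_away_comap_range D f]
      exact hf
    exact ⟨q, (congrArg j hq).trans hp⟩
  · let g : T ⟶ X j D := Over.homMk (IsOpenImmersion.lift jD T.hom fun _ ⟨y, hy⟩ => hy ▸ hT y)
      (IsOpenImmersion.lift_fac _ _ _)
    have h1 : (Red.DS S N ◁ Cocycle.mor j (Algebra.ofId R D)) ≫ x = fam e e' φ' D :=
      hφ' D (Algebra.ofId R D) (IsLocalization.Away.algebraMap_isUnit f)
    have h2 : fst (Red.DS S N) (X j D) ≫ Red.DSmap S φ = fam e e' φ' D := by
      refine hom_ext_uPt e ?_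
      rw [uPt_fam, ← Category.assoc, show uPt e D ≫ fst _ _ = e.pt (MonoidAlgebra.of D _) from lift_fst _ _]
      exact (stdChart_pt_DSmap j _ φ).trans (congrArg e'.pt (MonoidHom.ext fun m => rfl))
    have h3 : fst (Red.DS S N) (X j D) ≫ u = fst _ _ ≫ Red.DSmap S φ := by
      rw [h2, ← h1]
      simp [x]
    have h4 := congrArg (lift t g ≫ ·) h3
    simpa only [lift_fst_assoc] using h4

end Groth.L25.SplitSub
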