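import Groth.Agent.L25.SplitSub.Kill
import Groth.Agent.L25.SplitSub.LocalChar
import Groth.Agent.L25.Descent.EffEpi
import Groth.Agent.L25.NilAction
import Groth.Prelude.Def_RedSub

/-!
# The image of a homomorphism from a split group into a group of multiplicative type
-/

set_option autoImplicit false
universe u

open CategoryTheory CategoryTheory.Limits MonoidalCategory CartesianMonoidalCategory AlgebraicGeometry
open TopologicalSpace
open scoped MonObj

set_option backward.isDefEq.respectTransparency.types false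
set_option linter.style.haveILetI false

noncomputable section

namespace Groth.L25.SplitSub

variable {S : Scheme.{u}} {N : Type} [AddCommGroup N]

theorem kills_range_iff {M : Type} [AddCommGroup M] (φ : M →+ N) {T : Over S} (t : T ⟶ Red.DS S N) :
    t ≫ Red.DSmap S φ = 1 ↔ Kills φ.range t := by
  rw [← DSPts.char_injective.eq_iff, char_DSmap, DSPts.char_one]
  refine ⟨fun h n hn => ?_, fun h => MonoidHom.ext fun m => h _ ⟨m.toAdd, rfl⟩⟩
  obtain ⟨m, rfl⟩ := hn
  exact DFunLike.congr_fun h (Multiplicative.ofAdd m)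

theorem kills_top_iff {T : Over S} (t : T ⟶ Red.DS S N) : Kills ⊤ t ↔ t = 1 := by
  rw [← DSPts.char_injective.eq_iff, DSPts.char_one]
  exact ⟨fun h => MonoidHom.ext fun m => h m.toAdd trivial, fun h n _ => by rw [h]; rfl⟩

theorem mono_of_ker {H G : Over S} [GrpObj H] [GrpObj G] (u : H ⟶ G) [IsMonHom u]
    (h : ∀ (T : Over S) (t : T ⟶ H), t ≫ u = 1 → t = 1) : Mono u := ⟨fun {T} a b e => by
  have h1 := h T (a / b) (by rw [GrpObj.div_comp, e, div_self'])
  exact div_eq_one.1 h1⟩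

theorem mono_DSmap {M : Type} [AddCommGroup M] (φ : M →+ N) (hφ : Function.Surjective φ) :
    Mono (Red.DSmap S φ) := ⟨fun a b e => DSPts.char_injective (MonoidHom.ext fun n => by
  obtain ⟨m, hm⟩ := hφ n.toAdd
  have := DFunLike.congr_fun (congrArg DSPts.char e) (Multiplicative.ofAdd m)
  rw [char_DSmap, char_DSmap] at this
  change DSPts.char a (Multiplicative.ofAdd (φ m)) = DSPts.char b (Multiplicative.ofAdd (φ m)) at this
  rwa [hm] at this)⟩

/-- The base change of a split group is split. -/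
def bcDS {U : Scheme.{u}} (g : U ⟶ S) : Red.bc g (Red.DS S N) ≅ Red.DS U N :=
  ActBC.bcCompIso g (IsTerminal.from specULiftZIsTerminal S) (Red.diag (ULift.{u} ℤ) N)
    (specULiftZIsTerminal.hom_ext _ _)

instance isMonHom_bcDS {U : Scheme.{u}} (g : U ⟶ S) : IsMonHom (bcDS (N := N) g).hom :=
  inferInstanceAs (IsMonHom (ActBC.bcCompIso g _ (Red.diag (ULift.{u} ℤ) N) _).hom)

theorem char_bcDS {U : Scheme.{u}} (g : U ⟶ S) {T : Over U} (x : T ⟶ Red.bc g (Red.DS S N)) :
    DSPts.char (x ≫ (bcDS g).hom) = DSPts.char (NilAction.toBase g x) := by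
  have h : DSPts.specPt (x ≫ (bcDS g).hom) = DSPts.specPt (NilAction.toBase g x) := by
    simp only [DSPts.specPt, NilAction.toBase, Over.comp_left, Over.homMk_left, Category.assoc]
    exact congrArg (x.left ≫ ·) (ActBC.bcCompIso_hom_left_fst g _ (Red.diag (ULift.{u} ℤ) N) _)
  refine MonoidHom.ext fun m => ?_
  simp only [DSPts.char_apply, DSPts.ringHomOfPt, h]

/-- On a chart the kernel is cut out by the image of the map of characters. -/
theorem exists_chart {G : Over S} [GrpObj G] (u : Red.DS S N ⟶ G) [IsMonHom u] {S' : Scheme.{u}} (f : S' ⟶ S)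
    (V : S'.Opens) {M : Type} [AddCommGroup M] [Monoid.FG (Multiplicative M)]
    (e : Grp.mk (Red.bc (V.ι ≫ f) G) ≅ Grp.mk (Red.DS V.toScheme M)) {z : S'} (hz : z ∈ V) :
    ∃ U : S'.Opens, z ∈ U ∧ ∃ φ : M →+ N, ∀ (T : Over S) (a : T ⟶ Over.mk f), (∀ y, a.left y ∈ U) →
      ∀ t : T ⟶ Red.DS S N, t ≫ u = 1 ↔ Kills φ.range t := by
  let g : V.toScheme ⟶ S := V.ι ≫ f
  let ε : Red.bc g G ⟶ Red.DS V.toScheme M := e.hom.hom.hom
  have hε : IsMonHom ε := e.hom.hom.isMonHom_hom
  haveI : IsIso ε := ⟨e.inv.hom.hom, congr($(e.hom_inv_id).hom.hom), congr($(e.inv_hom_id).hom.hom)⟩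
  haveI : IsMonHom ((Over.pullback g).map u) :=
    ((Over.pullback g).mapGrp.map (Grp.homMk'' (A := Grp.mk (Red.DS S N)) (B := Grp.mk G) u
      (IsMonHom.one_hom u) (IsMonHom.mul_hom u))).hom.isMonHom_hom
  let u' : Red.DS V.toScheme N ⟶ Red.DS V.toScheme M := (bcDS g).inv ≫ (Over.pullback g).map u ≫ ε
  obtain ⟨U, hU, φ, hφ⟩ := exists_local_DSmap u' ⟨z, hz⟩
  refine ⟨V.ι ''ᵁ U, ⟨⟨z, hz⟩, hU, rfl⟩, φ, fun T a ha t => ?_⟩
  have hr : Set.range a.left ⊆ Set.range V.ι := by
    rintro _ ⟨y, rfl⟩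
    obtain ⟨w, -, hw⟩ := ha y
    exact ⟨w, hw⟩
  let T' : Over V.toScheme := Over.mk (IsOpenImmersion.lift V.ι a.left hr)
  have hT' : T'.hom ≫ g = T.hom := by
    show IsOpenImmersion.lift V.ι a.left hr ≫ V.ι ≫ f = _
    rw [← Category.assoc, IsOpenImmersion.lift_fac]
    exact Over.w a
  have hmem : ∀ y, T'.hom y ∈ U := fun y => by
    obtain ⟨w, hw, hwy⟩ := ha y
    have : T'.hom y = w := V.ι.isOpenEmbedding.injective (by
      rw [← Scheme.Hom.comp_apply, show T'.hom ≫ V.ι = a.left from IsOpenImmersion.lift_fac _ _ _]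
      exact hwy.symm)
    rw [this]
    exact hw
  let i : Over.mk (T'.hom ≫ g) ≅ T := Over.isoMk (Iso.refl _) ((Category.id_comp _).trans hT'.symm)
  let t₀ : T' ⟶ Red.bc g (Red.DS S N) := NilAction.ofBase g (i.hom ≫ t)
  let t' : T' ⟶ Red.DS V.toScheme N := t₀ ≫ (bcDS g).hom
  have hchar : DSPts.char t' = DSPts.char t := by
    rw [char_bcDS, NilAction.toBase_ofBase]
    refine MonoidHom.ext fun m => ?_
    rw [DSPts.char_comp]
    exact congrArg (fun k => k (DSPts.char t m)) (Scheme.Hom.id_appTop (X := T.left))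
  have h1 : t ≫ u = 1 ↔ t₀ ≫ (Over.pullback g).map u = 1 := by
    rw [NilAction.ofBase_comp, ← cancel_epi i.hom, ← Category.assoc i.hom t u, MonObj.comp_one]
    constructor
    · intro h
      rw [h, ← NilAction.toBase_one g, NilAction.ofBase_toBase]
    · intro h
      rw [← NilAction.toBase_ofBase g ((i.hom ≫ t) ≫ u), h, NilAction.toBase_one]
  have h2 : t₀ ≫ (Over.pullback g).map u = 1 ↔ t' ≫ u' = 1 := by
    rw [← cancel_mono ε, @MonObj.one_comp _ _ _ _ _ _ _ _ ε hε]
    simp only [t', u', Category.assoc, Iso.hom_inv_id_assoc]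
  rw [h1, h2, hφ T' hmem t', kills_range_iff]
  exact ⟨fun h n hn => by rw [← hchar]; exact h n hn, fun h n hn => by rw [hchar]; exact h n hn⟩

variable {G : Over S} [GrpObj G] (u : Red.DS S N ⟶ G) {A : AddSubgroup N}

theorem Good.eq_top [Mono u] [IsMonHom u] {U : Set S} (h : Good u U A) {s : S} (hs : s ∈ U) : A = ⊤ := by
  refine h.unique u (U' := U) (fun T _ t => ?_) hs hs
  rw [kills_top_iff, ← cancel_mono u, MonObj.one_comp]

/-- The inclusion of the characters of the image. -/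
abbrev incl (S : Scheme.{u}) (A : AddSubgroup N) : Red.DS S N ⟶ Red.DS S A := Red.DSmap S A.subtype

theorem kills_incl_iff (A : AddSubgroup N) {T : Over S} (t : T ⟶ Red.DS S N) :
    t ≫ incl S A = 1 ↔ Kills A t := by
  rw [kills_range_iff, AddSubgroup.range_subtype]

theorem cover_incl (A : AddSubgroup N) : EffectiveEpi (incl S A).left := by
  obtain ⟨hfl, hsurj, haff⟩ := DSmap_cover (S := S) A.subtype A.subtype_injective
  haveI := hfl
  haveI := hsurj
  haveI := haff
  exact Descent.effectiveEpi_of_cover _ fun V hV => ⟨(incl S A).left ⁻¹ᵁ V,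
    (incl S A).left.isCompact_preimage hV.isCompact, Set.image_preimage_eq _ hsurj.surj⟩

theorem exists_lift_incl (A : AddSubgroup N) {T : Over S} (t : T ⟶ Red.DS S A) :
    ∃ (T' : Over S) (c : T' ⟶ T) (t' : T' ⟶ Red.DS S N), Flat c.left ∧ Surjective c.left ∧ t' ≫ incl S A = c ≫ t := by
  obtain ⟨hfl, hsurj, -⟩ := DSmap_cover (S := S) A.subtype A.subtype_injective
  let π := incl S A
  let T' : Over S := Over.mk (pullback.fst t.left π.left ≫ T.hom)
  refine ⟨T', Over.homMk (pullback.fst t.left π.left) rfl, Over.homMk (pullback.snd t.left π.left) ?_,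
    MorphismProperty.pullback_fst _ _ hfl, MorphismProperty.pullback_fst _ _ hsurj,
    Over.OverMorphism.ext pullback.condition.symm⟩
  show pullback.snd t.left π.left ≫ (Red.DS S N).hom = pullback.fst t.left π.left ≫ T.hom
  rw [← Over.w π, ← pullback.condition_assoc, Over.w t]

instance isMonHom_incl (A : AddSubgroup N) : IsMonHom (incl S A) :=
  Groth.L25.TorusTorsion.isMonHom_DSmap S A.subtype

theorem isMonHom_of_mul {H G : Over S} [GrpObj H] [GrpObj G] (v : H ⟶ G)
    (h : ∀ (T : Over S) (a b : T ⟶ H), (a * b) ≫ v = (a ≫ v) * (b ≫ v)) : IsMonHom v where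
  one_hom := by
    have h1 := h (𝟙_ _) 1 1
    rw [_root_.one_mul] at h1
    have h2 : (1 : 𝟙_ (Over S) ⟶ H) ≫ v = 1 := left_eq_mul.1 h1
    simpa [Hom.one_def, toUnit_unique (toUnit (𝟙_ (Over S))) (𝟙 _)] using h2
  mul_hom := by
    have h1 := h (H ⊗ H) (fst H H) (snd H H)
    simpa [Hom.mul_def, lift_fst_comp_snd_comp] using h1

/-- A homomorphism factors through the split group of the characters killing its kernel, by a monomorphism. -/
theorem exists_factor [IsMonHom u] (h : Good u Set.univ A) :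
    ∃ v : Red.DS S A ⟶ G, IsMonHom v ∧ Mono v ∧ incl S A ≫ v = u := by
  obtain ⟨hfl, hsurj, -⟩ := DSmap_cover (S := S) A.subtype A.subtype_injective
  haveI := hfl
  haveI := hsurj
  haveI := cover_incl (S := S) A
  let π := incl S A
  have hd : ∀ {Z : Scheme.{u}} (g₁ g₂ : Z ⟶ (Red.DS S N).left), g₁ ≫ π.left = g₂ ≫ π.left →
      g₁ ≫ u.left = g₂ ≫ u.left := by
    intro Z g₁ g₂ hg
    let T : Over S := Over.mk (g₁ ≫ (Red.DS S N).hom)
    let a : T ⟶ Red.DS S N := Over.homMk g₁ rfl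
    let b : T ⟶ Red.DS S N := Over.homMk g₂ (by
      show g₂ ≫ (Red.DS S N).hom = g₁ ≫ (Red.DS S N).hom
      rw [← Over.w π, reassoc_of% hg])
    have hab : a ≫ π = b ≫ π := Over.OverMorphism.ext hg
    have h1 : (a / b) ≫ u = 1 := (h T (fun _ => Set.mem_univ _) _).2
      ((kills_incl_iff A (a / b)).1 (by
        haveI := isMonHom_incl (S := S) A
        show (a / b) ≫ π = 1
        rw [GrpObj.div_comp a b π, hab, div_self']))
    rw [GrpObj.div_comp, div_eq_one] at h1
    exact congrArg (fun m => m.left) h1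
  let v₀ := EffectiveEpi.desc π.left u.left fun g₁ g₂ e => hd g₁ g₂ e
  have hv₀ : π.left ≫ v₀ = u.left := EffectiveEpi.fac π.left u.left _
  let v : Red.DS S A ⟶ G := Over.homMk v₀ (by
    rw [← cancel_epi π.left, reassoc_of% hv₀, Over.w π, Over.w u])
  have hv : π ≫ v = u := Over.OverMorphism.ext hv₀
  haveI : Epi π := by
    haveI : Epi π.left := inferInstance
    exact Over.epi_of_epi_left _
  haveI hπm : IsMonHom π := isMonHom_incl A
  haveI : IsMonHom v := isMonHom_of_mul v fun T a b => by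
    obtain ⟨T₁, c₁, a₁, hcf₁, hcs₁, ha₁⟩ := exists_lift_incl A a
    obtain ⟨T₂, c₂, b₂, hcf₂, hcs₂, hb₂⟩ := exists_lift_incl A (c₁ ≫ b)
    haveI := hcf₁
    haveI := hcf₂
    refine eq_of_cover (I := PUnit) (fun _ => c₁) (fun x => ⟨⟨⟩, hcs₁.surj x⟩) fun _ => ?_
    refine eq_of_cover (I := PUnit) (fun _ => c₂) (fun x => ⟨⟨⟩, hcs₂.surj x⟩) fun _ => ?_
    have e : c₂ ≫ c₁ ≫ (a * b) = ((c₂ ≫ a₁) * b₂) ≫ π := by
      rw [MonObj.mul_comp (c₂ ≫ a₁) b₂ π, Category.assoc, ha₁, hb₂, MonObj.comp_mul, MonObj.comp_mul]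
    simp only [← Category.assoc]
    rw [Category.assoc c₂ c₁ (a * b), e, Category.assoc, hv, MonObj.mul_comp, ← hv]
    simp only [MonObj.comp_mul, Category.assoc]
    rw [reassoc_of% hb₂, reassoc_of% ha₁]
  refine ⟨v, inferInstance, mono_of_ker v fun T t ht => ?_, hv⟩
  obtain ⟨T', c, t', hcf, hcs, ht'⟩ := exists_lift_incl A t
  haveI := hcf
  refine eq_of_cover (I := PUnit) (fun _ => c) (fun x => ⟨⟨⟩, hcs.surj x⟩) fun _ => ?_
  rw [MonObj.comp_one, ← ht', kills_incl_iff]
  refine (h _ (fun _ => Set.mem_univ _) t').1 ?_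
  rw [← hv, ← Category.assoc, ht', Category.assoc, ht, MonObj.comp_one]

end Groth.L25.SplitSub
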