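import Groth.Agent.L25.SplitSub.Subtori
import Mathlib.LinearAlgebra.Pi
import Mathlib.Logic.Equiv.Fin.Basic

/-!
# The greatest split subtorus
-/

set_option autoImplicit false
universe u

open CategoryTheory CategoryTheory.Limits MonoidalCategory CartesianMonoidalCategory AlgebraicGeometry
open scoped MonObj

set_option backward.isDefEq.respectTransparency.types false
set_option linter.style.haveILetI false

noncomputable section

namespace Groth.L25.SplitSub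

variable {S : Scheme.{u}} {G : Over S} [GrpObj G]

/-- Over a connected base a split subtorus of maximal rank receives every homomorphism from a split torus. -/
theorem exists_greatest [ConnectedSpace S] (hG : SGA3x.IsMultTypeFT G) :
    ∃ (r₀ : ℕ) (j₀ : Red.DS S (Fin r₀ → ℤ) ⟶ G), IsMonHom j₀ ∧ Mono j₀ ∧
      ∀ (r : ℕ) (u : Red.DS S (Fin r → ℤ) ⟶ G) [IsMonHom u],
        ∃ g : Red.DS S (Fin r → ℤ) ⟶ Red.DS S (Fin r₀ → ℤ), g ≫ j₀ = u := by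
  classical
  have himg : ∀ {r : ℕ} (u : Red.DS S (Fin r → ℤ) ⟶ G) [IsMonHom u],
      ∃ (r' : ℕ) (g : Red.DS S (Fin r → ℤ) ⟶ Red.DS S (Fin r' → ℤ)) (j : Red.DS S (Fin r' → ℤ) ⟶ G),
        r' ≤ r ∧ IsMonHom g ∧ IsMonHom j ∧ Mono j ∧ g ≫ j = u := fun u _ => by
    obtain ⟨A, hA⟩ := exists_good_univ u (exists_good_of_multType hG u)
    exact exists_image u hA
  obtain ⟨b, hb⟩ := exists_rank_bound hG inferInstance
  let P : ℕ → Prop := fun r => ∃ j : Red.DS S (Fin r → ℤ) ⟶ G, IsMonHom j ∧ Mono j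
  have hP : ∀ {r}, P r → r ≤ b := fun {r} ⟨j, hj, hj'⟩ => @hb r j hj hj'
  have hbase : ∃ r, P r ∧ r ≤ b := by
    haveI : IsMonHom (1 : Red.DS S (Fin 0 → ℤ) ⟶ G) := isMonHom_of_mul _ fun T a b => by
      rw [MonObj.comp_one, MonObj.comp_one, MonObj.comp_one, one_mul]
    obtain ⟨r', -, j, -, -, h1, h2, -⟩ := himg (1 : Red.DS S (Fin 0 → ℤ) ⟶ G)
    exact ⟨r', ⟨j, h1, h2⟩, hP ⟨j, h1, h2⟩⟩
  let r₀ := Nat.findGreatest P b
  obtain ⟨r₁, hr₁, hr₁b⟩ := hbase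
  obtain ⟨j₀, hj₀, hj₀'⟩ : P r₀ := Nat.findGreatest_spec hr₁b hr₁
  haveI := hj₀
  haveI := hj₀'
  refine ⟨r₀, j₀, hj₀, hj₀', fun r u _ => ?_⟩
  obtain ⟨w, hwm, hw₁, hw₂⟩ := exists_prod (fun Y a b => Central.mul_comm_of_multTypeFT hG a b) j₀ u
  haveI := hwm
  let e : ((Fin r₀ → ℤ) × (Fin r → ℤ)) ≃+ (Fin (r₀ + r) → ℤ) :=
    ((LinearEquiv.sumArrowLequivProdArrow (Fin r₀) (Fin r) ℤ ℤ).symm.trans
      (LinearEquiv.funCongrLeft ℤ ℤ finSumFinEquiv.symm)).toAddEquiv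
  let a := Red.DSmap S e.toAddMonoidHom
  haveI : IsMonHom a := Groth.L25.TorusTorsion.isMonHom_DSmap S _
  obtain ⟨r', g, j, -, hgm, hjm, hjmono, hgj⟩ := himg (a ≫ w)
  haveI := hgm
  haveI := hjm
  haveI := hjmono
  let back := Red.DSmap S e.symm.toAddMonoidHom
  haveI : IsMonHom back := Groth.L25.TorusTorsion.isMonHom_DSmap S _
  have hback : back ≫ g ≫ j = w := by
    rw [hgj, ← Category.assoc, show back ≫ a = 𝟙 _ from DSmap_iso_comp e.symm, Category.id_comp]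
  let p₁ := Red.DSmap S (AddMonoidHom.fst (Fin r₀ → ℤ) (Fin r → ℤ))
  let p₂ := Red.DSmap S (AddMonoidHom.snd (Fin r₀ → ℤ) (Fin r → ℤ))
  haveI : IsMonHom p₁ := Groth.L25.TorusTorsion.isMonHom_DSmap S _
  let g₀ := p₁ ≫ back ≫ g
  have hg₀ : g₀ ≫ j = j₀ := by
    simp only [g₀, Category.assoc]
    rw [hback]
    exact hw₁
  haveI : Mono (g₀ ≫ j) := by rw [hg₀]; exact hj₀'
  haveI : Mono g₀ := mono_of_mono g₀ j
  haveI : IsIso g₀ := isIso_of_mono_split (Nat.le_findGreatest (hP ⟨j, hjm, hjmono⟩) ⟨j, hjm, hjmono⟩) g₀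
  refine ⟨(p₂ ≫ back ≫ g) ≫ inv g₀, ?_⟩
  rw [← hg₀]
  simp only [Category.assoc, IsIso.inv_hom_id_assoc]
  rw [hback]
  exact hw₂

/-- A subtorus with a split structure, as a homomorphism from the standard one. -/
theorem exists_std {T : Over S} [GrpObj T] {M : Type} [AddCommGroup M] (h : Red.IsSplitTorusWith M T) :
    ∃ (p : Red.DS S M ⟶ T) (p' : T ⟶ Red.DS S M), IsMonHom p ∧ IsMonHom p' ∧ p ≫ p' = 𝟙 _ ∧ p' ≫ p = 𝟙 _ ∧
      IsIso p := by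
  obtain ⟨e⟩ := h
  exact ⟨e.inv.hom.hom, e.hom.hom.hom, e.inv.hom.isMonHom_hom, e.hom.hom.isMonHom_hom,
    congr($(e.inv_hom_id).hom.hom), congr($(e.hom_inv_id).hom.hom),
    ⟨e.hom.hom.hom, congr($(e.inv_hom_id).hom.hom), congr($(e.hom_inv_id).hom.hom)⟩⟩

/-- The greatest split subtorus in the form of the milestones. -/
theorem exists_greatest' [ConnectedSpace S] (hG : SGA3x.IsMultTypeFT G) :
    ∃ (r₀ : ℕ) (j₀ : Red.DS S (Fin r₀ → ℤ) ⟶ G), IsMonHom j₀ ∧ Mono j₀ ∧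
      ∀ (T' : Over S) [GrpObj T'] (j' : T' ⟶ G) [IsMonHom j'] (r' : ℕ),
        Red.IsSplitTorusWith (Fin r' → ℤ) T' → ∃ g : T' ⟶ Red.DS S (Fin r₀ → ℤ), g ≫ j₀ = j' := by
  obtain ⟨r₀, j₀, h1, h2, h3⟩ := exists_greatest hG
  refine ⟨r₀, j₀, h1, h2, fun T' _ j' _ r' hT' => ?_⟩
  obtain ⟨p, p', hp, -, -, hp'p, -⟩ := exists_std hT'
  haveI := hp
  obtain ⟨g, hg⟩ := h3 r' (p ≫ j')
  exact ⟨p' ≫ g, by rw [Category.assoc, hg, ← Category.assoc, hp'p, Category.id_comp]⟩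

theorem isSplitTorusWith_DS (S : Scheme.{u}) (M : Type) [AddCommGroup M] : Red.IsSplitTorusWith M (Red.DS S M) :=
  ⟨Iso.refl _⟩

/-- Every cocharacter factors through the greatest split subtorus. -/
theorem exists_factor_cochar [ConnectedSpace S] (hG : SGA3x.IsMultTypeFT G) :
    ∃ (r₀ : ℕ) (j₀ : Red.DS S (Fin r₀ → ℤ) ⟶ G), IsMonHom j₀ ∧ Mono j₀ ∧
      ∀ (u : Red.Gm S ⟶ G) [IsMonHom u], ∃ g : Red.Gm S ⟶ Red.DS S (Fin r₀ → ℤ), g ≫ j₀ = u := by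
  obtain ⟨r₀, j₀, h1, h2, h3⟩ := exists_greatest' hG
  refine ⟨r₀, j₀, h1, h2, fun u _ => ?_⟩
  let e : ℤ ≃+ (Fin 1 → ℤ) := (LinearEquiv.funUnique (Fin 1) ℤ ℤ).symm.toAddEquiv
  haveI : IsMonHom (mapIso (S := S) e).symm.hom := Groth.L25.TorusTorsion.isMonHom_DSmap S _
  exact h3 (Red.Gm S) u 1 ⟨Grp.mkIso' (mapIso e).symm⟩

end Groth.L25.SplitSub
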