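import Groth.Agent.L25.SplitSub.Image

/-!
# Base change of a homomorphism out of a split group and its kernel
-/

set_option autoImplicit false
universe u

open CategoryTheory CategoryTheory.Limits MonoidalCategory CartesianMonoidalCategory AlgebraicGeometry
open scoped MonObj

set_option backward.isDefEq.respectTransparency.types false
set_option linter.style.haveILetI false

noncomputable section

namespace Groth.L25.SplitSub

variable {S : Scheme.{u}} {N : Type} [AddCommGroup N]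

/-- the base change, on the split group of the new base -/
def bcHom {X : Scheme.{u}} (g : X ⟶ S) {G : Over S} (u : Red.DS S N ⟶ G) : Red.DS X N ⟶ Red.bc g G :=
  (bcDS g).inv ≫ (Over.pullback g).map u

theorem bcDS_hom_bcHom {X : Scheme.{u}} (g : X ⟶ S) {G : Over S} (u : Red.DS S N ⟶ G) :
    (bcDS g).hom ≫ bcHom g u = (Over.pullback g).map u := by
  rw [bcHom, Iso.hom_inv_id_assoc]

theorem isMonHom_bcHom {X : Scheme.{u}} (g : X ⟶ S) {G : Over S} [GrpObj G] (u : Red.DS S N ⟶ G) [IsMonHom u] :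
    IsMonHom (bcHom g u) := by
  have h1 : IsMonHom ((Over.pullback g).map u) := ((Over.pullback g).mapGrp.map
    (Grp.homMk'' (A := Grp.mk (Red.DS S N)) (B := Grp.mk G) u (IsMonHom.one_hom u) (IsMonHom.mul_hom u))).hom.isMonHom_hom
  have : IsMonHom (bcDS (N := N) g).hom := isMonHom_bcDS g
  have h2 : IsMonHom (bcDS (N := N) g).inv := inferInstance
  rw [bcHom]
  exact @instIsMonHomComp _ _ _ _ _ _ _ _ _ _ _ h2 h1

/-- a point over the new base as a point over the old one -/
def downPt {X : Scheme.{u}} (g : X ⟶ S) {T : Over X} (t : T ⟶ Red.DS X N) : Over.mk (T.hom ≫ g) ⟶ Red.DS S N :=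
  NilAction.toBase g (t ≫ (bcDS g).inv)

theorem char_downPt {X : Scheme.{u}} (g : X ⟶ S) {T : Over X} (t : T ⟶ Red.DS X N) :
    DSPts.char (downPt g t) = DSPts.char t := by
  rw [downPt, ← char_bcDS, Category.assoc, Iso.inv_hom_id]; exact congrArg DSPts.char (Category.comp_id t)

theorem kills_downPt_iff {X : Scheme.{u}} (g : X ⟶ S) {T : Over X} (t : T ⟶ Red.DS X N) (A : AddSubgroup N) :
    Kills A (downPt g t) ↔ Kills A t :=
  forall₂_congr fun n _ => by rw [char_downPt]

theorem downPt_comp_eq_one_iff {X : Scheme.{u}} (g : X ⟶ S) {G : Over S} [GrpObj G] (u : Red.DS S N ⟶ G)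
    {T : Over X} (t : T ⟶ Red.DS X N) : downPt g t ≫ u = 1 ↔ t ≫ bcHom g u = 1 := by
  have e : t ≫ bcHom g u = NilAction.ofBase g (downPt g t ≫ u) := by
    rw [bcHom, ← NilAction.ofBase_comp, downPt, NilAction.ofBase_toBase, Category.assoc]
  rw [e]
  constructor
  · intro h
    rw [h, ← NilAction.toBase_one g, NilAction.ofBase_toBase]
  · intro h
    rw [← NilAction.toBase_ofBase g (downPt g t ≫ u), h, NilAction.toBase_one]

theorem exists_upPt {X : Scheme.{u}} (g : X ⟶ S) {T : Over S} (a : T ⟶ Over.mk g) (t : T ⟶ Red.DS S N) :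
    ∃ (T' : Over X) (t' : T' ⟶ Red.DS X N) (i : Over.mk (T'.hom ≫ g) ≅ T), i.hom ≫ t = downPt g t' ∧
      T'.hom = i.hom.left ≫ a.left := by
  let T' : Over X := Over.mk a.left
  let i : Over.mk (T'.hom ≫ g) ≅ T :=
    Over.isoMk (Iso.refl _) ((Category.id_comp _).trans (Over.w a).symm)
  refine ⟨T', NilAction.ofBase g (i.hom ≫ t) ≫ (bcDS g).hom, i, ?_, (Category.id_comp _).symm⟩
  rw [downPt, Category.assoc, Iso.hom_inv_id, Category.comp_id, NilAction.toBase_ofBase]

theorem kills_iso_iff {T T' : Over S} (i : T' ≅ T) (t : T ⟶ Red.DS S N) (A : AddSubgroup N) :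
    Kills A (i.hom ≫ t) ↔ Kills A t :=
  ⟨fun h => by simpa using h.comp i.inv, fun h => h.comp i.hom⟩

theorem comp_eq_one_iso_iff {G : Over S} [GrpObj G] {T T' : Over S} (i : T' ≅ T) (t : T ⟶ G) :
    i.hom ≫ t = 1 ↔ t = 1 := by
  rw [← cancel_epi i.hom (g := t) (h := 1), MonObj.comp_one]

variable {G : Over S} [GrpObj G] (u : Red.DS S N ⟶ G)

/-- the characters in `A` kill everything in the kernel, over the set `U` -/
def Imp (U : Set S) (A : AddSubgroup N) : Prop :=
  ∀ T : Over S, (∀ y, T.hom y ∈ U) → ∀ t : T ⟶ Red.DS S N, Kills A t → t ≫ u = 1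

theorem exists_over_of_range {X : Scheme.{u}} (j : X ⟶ S) [IsOpenImmersion j] {T : Over S}
    (hT : ∀ y, T.hom y ∈ Set.range j) : Nonempty (T ⟶ Over.mk j) :=
  ⟨Over.homMk (IsOpenImmersion.lift j T.hom (by rintro _ ⟨y, rfl⟩; exact hT y)) (IsOpenImmersion.lift_fac _ _ _)⟩

theorem Good.of_bc {X : Scheme.{u}} (j : X ⟶ S) [IsOpenImmersion j] {U : Set X} {A : AddSubgroup N}
    (h : Good (bcHom j u) U A) : Good u (j '' U) A := by
  intro T hT t
  obtain ⟨a⟩ := exists_over_of_range j fun y => Set.image_subset_range _ _ (hT y)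
  obtain ⟨T', t', i, hi, hT'⟩ := exists_upPt j a t
  have hU : ∀ y, T'.hom y ∈ U := fun y => by
    obtain ⟨z, hz, e⟩ := hT (i.hom.left y)
    have : T'.hom y = z := j.isOpenEmbedding.injective (by
      rw [e, ← Scheme.Hom.comp_apply, ← Scheme.Hom.comp_apply]
      rw [show i.hom.left ≫ T.hom = T'.hom ≫ j from Over.w i.hom])
    rw [this]
    exact hz
  rw [← comp_eq_one_iso_iff i, ← Category.assoc, hi, downPt_comp_eq_one_iff, h T' hU, ← kills_downPt_iff j, ← hi,
    kills_iso_iff]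

theorem Good.bc {X : Scheme.{u}} (g : X ⟶ S) {U : Set S} {A : AddSubgroup N} (h : Good u U A) :
    Good (bcHom g u) (g ⁻¹' U) A := by
  intro T hT t
  rw [← downPt_comp_eq_one_iff, ← kills_downPt_iff g]
  exact h _ (fun y => hT y) (downPt g t)

theorem Imp.bc {X : Scheme.{u}} (g : X ⟶ S) {U : Set S} {A : AddSubgroup N} (h : Imp u U A) :
    Imp (bcHom g u) (g ⁻¹' U) A := by
  intro T hT t
  rw [← downPt_comp_eq_one_iff, ← kills_downPt_iff g]
  exact h _ (fun y => hT y) (downPt g t)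

/-- A homomorphism factors through the split group of characters forcing points into its kernel. -/
theorem exists_factor_of_imp [IsMonHom u] {A : AddSubgroup N} (h : Imp u Set.univ A) :
    ∃ v : Red.DS S A ⟶ G, IsMonHom v ∧ incl S A ≫ v = u := by
  obtain ⟨hfl, hsurj, -⟩ := DSmap_cover (S := S) A.subtype A.subtype_injective
  haveI := hfl
  haveI := hsurj
  haveI := cover_incl (S := S) A
  let π := incl S A
  have hd : ∀ {Z : Scheme.{u}} (g₁ g₂ : Z ⟶ (Red.DS S N).left), g₁ ≫ π.left = g₂ ≫ π.left →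
      g₁ ≫ u.left = g₂ ≫ u.left := by
    intro Z g₁ g₂ hg
    let T : Over S := Over.mk (g₁ ≫ (Red.DS S N).hom)
    let a : T ⟶ Red.DS S N := Over.homMk g₁ rfl
    let b : T ⟶ Red.DS S N := Over.homMk g₂ (by
      show g₂ ≫ (Red.DS S N).hom = g₁ ≫ (Red.DS S N).hom
      rw [← Over.w π, reassoc_of% hg])
    have hab : a ≫ π = b ≫ π := Over.OverMorphism.ext hg
    have h1 : (a / b) ≫ u = 1 := h T (fun _ => Set.mem_univ _) _
      ((kills_incl_iff A (a / b)).1 (by
        haveI := isMonHom_incl (S := S) A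
        show (a / b) ≫ π = 1
        rw [GrpObj.div_comp a b π, hab, div_self']))
    rw [GrpObj.div_comp, div_eq_one] at h1
    exact congrArg (fun m => m.left) h1
  let v₀ := EffectiveEpi.desc π.left u.left fun g₁ g₂ e => hd g₁ g₂ e
  have hv₀ : π.left ≫ v₀ = u.left := EffectiveEpi.fac π.left u.left _
  let v : Red.DS S A ⟶ G := Over.homMk v₀ (by
    rw [← cancel_epi π.left, reassoc_of% hv₀, Over.w π, Over.w u])
  have hv : π ≫ v = u := Over.OverMorphism.ext hv₀
  haveI hπm : IsMonHom π := isMonHom_incl A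
  haveI : IsMonHom v := isMonHom_of_mul v fun T a b => by
    obtain ⟨T₁, c₁, a₁, hcf₁, hcs₁, ha₁⟩ := exists_lift_incl A a
    obtain ⟨T₂, c₂, b₂, hcf₂, hcs₂, hb₂⟩ := exists_lift_incl A (c₁ ≫ b)
    haveI := hcf₁
    haveI := hcf₂
    refine eq_of_cover (I := PUnit) (fun _ => c₁) (fun x => ⟨⟨⟩, hcs₁.surj x⟩) fun _ => ?_
    refine eq_of_cover (I := PUnit) (fun _ => c₂) (fun x => ⟨⟨⟩, hcs₂.surj x⟩) fun _ => ?_
    have e : c₂ ≫ c₁ ≫ (a * b) = ((c₂ ≫ a₁) * b₂) ≫ π := by
      rw [MonObj.mul_comp (c₂ ≫ a₁) b₂ π, Category.assoc, ha₁, hb₂, MonObj.comp_mul, MonObj.comp_mul]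
    simp only [← Category.assoc]
    rw [Category.assoc c₂ c₁ (a * b), e, Category.assoc, hv, MonObj.mul_comp, ← hv]
    simp only [MonObj.comp_mul, Category.assoc]
    rw [reassoc_of% hb₂, reassoc_of% ha₁]
  exact ⟨v, inferInstance, hv⟩

end Groth.L25.SplitSub
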