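import Groth.Agent.L25.SplitSub.KernelIdeal

/-!
# Over a field the kernel of a homomorphism out of a split group is cut out by characters
-/

set_option autoImplicit false
universe u

open CategoryTheory CategoryTheory.Limits MonoidalCategory CartesianMonoidalCategory AlgebraicGeometry
open TensorProduct
open scoped MonObj

set_option backward.isDefEq.respectTransparency.types false
set_option linter.style.haveILetI false

noncomputable section

namespace Groth.L25.SplitSub

open Cocycle

variable {R : Type u} [CommRing R] {N : Type} [AddCommGroup N] {G : Over (Spec (CommRingCat.of R))} [GrpObj G]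

/-- Statements about points may be checked on affine charts. -/
theorem forall_of_affine {T : Over (Spec (CommRingCat.of R))} (t : T ⟶ Red.DS (Spec (CommRingCat.of R)) N)
    (u : Red.DS (Spec (CommRingCat.of R)) N ⟶ G) (A : AddSubgroup N)
    (h : ∀ (C : Type u) [CommRing C] [Algebra R C] (χ : Multiplicative N →* C),
      (idChart R N).pt χ ≫ u = 1 ↔ ∀ n ∈ A, χ (Multiplicative.ofAdd n) = 1) :
    t ≫ u = 1 ↔ Kills A t := by
  classical
  let aff := {W : T.left.Opens // IsAffineOpen W}
  let Y : aff → Over (Spec (CommRingCat.of R)) := fun W => Over.mk (W.2.fromSpec ≫ T.hom)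
  let c : ∀ W, Y W ⟶ T := fun W => Over.homMk W.2.fromSpec rfl
  haveI : ∀ W, Flat (c W).left := fun W => inferInstanceAs (Flat W.2.fromSpec)
  have hc : ∀ x : T.left, ∃ W, x ∈ Set.range (c W).left := fun x => by
    obtain ⟨_, ⟨W, hW, rfl⟩, hx, -⟩ := T.left.isBasis_affineOpens.exists_subset_of_mem_open
      (Set.mem_univ x) isOpen_univ
    exact ⟨⟨W, hW⟩, (hW.range_fromSpec).ge hx⟩
  have key : ∀ W, (c W ≫ t) ≫ u = 1 ↔ Kills A (c W ≫ t) := by
    intro W
    letI : Algebra R Γ(T.left, W.1) := (Spec.preimage (W.2.fromSpec ≫ T.hom)).hom.toAlgebra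
    have he : Spec.map (CommRingCat.ofHom (algebraMap R Γ(T.left, W.1))) ≫ 𝟙 _ = W.2.fromSpec ≫ T.hom := by
      rw [Category.comp_id, RingHom.algebraMap_toAlgebra]
      exact Spec.map_preimage _
    let e : X (𝟙 _) Γ(T.left, W.1) ⟶ Y W := Over.homMk (𝟙 _) ((Category.id_comp _).trans he.symm)
    have : IsIso e.left := inferInstanceAs (IsIso (𝟙 _))
    have : IsIso ((Over.forget _).map e) := this
    have : IsIso e := isIso_of_reflects_iso e (Over.forget _)
    haveI : Flat e.left := inferInstance
    obtain ⟨χ, hχ⟩ := ((idChart R N).bij Γ(T.left, W.1)).2 (e ≫ c W ≫ t)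
    have hchar : ∀ n, DSPts.char (e ≫ c W ≫ t) n = (Scheme.ΓSpecIso (CommRingCat.of Γ(T.left, W.1))).inv (χ n) :=
      fun n => by
        rw [← hχ]
        simp only [idChart, stdChart, DSPts.char_pt]
        rfl
    have hk : Kills A (e ≫ c W ≫ t) ↔ ∀ n ∈ A, χ (Multiplicative.ofAdd n) = 1 := by
      refine forall₂_congr fun n hn => ?_
      rw [hchar]
      exact ⟨fun h1 => (ConcreteCategory.bijective_of_isIso (Scheme.ΓSpecIso (CommRingCat.of Γ(T.left, W.1))).inv).1
        (h1.trans (map_one _).symm), fun h1 => by rw [h1, map_one]⟩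
    have h1 := (h Γ(T.left, W.1) χ).trans hk.symm
    rw [hχ] at h1
    constructor
    · intro h2
      refine Kills.of_cover (I := PUnit) (fun _ => e) (fun x => ⟨⟨⟩, x, rfl⟩) fun _ => h1.1 ?_
      simp only [Category.assoc] at h2 ⊢
      rw [h2, MonObj.comp_one]
    · intro h2
      have h3 := h1.2 (h2.comp e)
      simp only [Category.assoc] at h3 ⊢
      rw [← cancel_epi e, MonObj.comp_one]
      exact h3
  constructor
  · intro h1
    exact Kills.of_cover c hc fun W => (key W).1 (by rw [Category.assoc, h1, MonObj.comp_one])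
  · intro h1
    refine eq_of_cover c hc fun W => ?_
    rw [MonObj.comp_one, ← Category.assoc]
    exact (key W).2 (h1.comp (c W))

/-- Over a field the kernel is cut out by a group of characters. -/
theorem exists_good_field {k : Type u} [Field k] {G : Over (Spec (CommRingCat.of k))} [GrpObj G]
    [IsSeparated G.hom] [LocallyOfFiniteType G.hom] (u : Red.DS (Spec (CommRingCat.of k)) N ⟶ G) [IsMonHom u] :
    ∃ A : AddSubgroup N, Good u Set.univ A := by
  classical
  obtain ⟨I, -, hI⟩ := exists_ideal u
  let B := MonoidAlgebra k (Multiplicative N)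
  let Q := B ⧸ I
  let q : B →ₐ[k] Q := Ideal.Quotient.mkₐ k I
  let g : Multiplicative N →* Q := (q : B →* Q).comp (MonoidAlgebra.of k _)
  have hq : ∀ x, evalAt g x = q x := fun x => by
    induction x using MonoidAlgebra.induction_linear with
    | zero => rw [map_zero, map_zero]
    | add a b ha hb => rw [map_add, map_add, ha, hb]
    | single m c =>
      rw [show evalAt g (MonoidAlgebra.single m c) = c • g m from MonoidAlgebra.lift_single _ _ _,
        show (MonoidAlgebra.single m c : B) = c • MonoidAlgebra.single m 1 by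
          rw [MonoidAlgebra.smul_single, smul_eq_mul, _root_.mul_one], map_smul]
      rfl
  have hker : ∀ {C : Type u} [CommRing C] [Algebra k C] (χ : Multiplicative N →* C),
      (idChart k N).pt χ ≫ u = 1 → ∃ f : Q →ₐ[k] C, ∀ m, f (g m) = χ m := by
    intro C _ _ χ h
    refine ⟨Ideal.Quotient.liftₐ I (evalAt χ) ((hI C χ).1 h), fun m => ?_⟩
    exact (Ideal.Quotient.lift_mk I _ _).trans (MonoidAlgebra.lift_of χ m)
  have hgker : (idChart k N).pt g ≫ u = 1 := (hI Q g).2 fun x hx => by
    rw [hq]
    exact Ideal.Quotient.eq_zero_iff_mem.2 hx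
  have h1 : (idChart k N).pt (1 : Multiplicative N →* k) ≫ u = 1 := by
    rw [show (idChart k N).pt (1 : Multiplicative N →* k) = 1 from DSPts.char_injective (by
      simp only [idChart, stdChart, DSPts.char_pt, DSPts.char_one]
      exact MonoidHom.ext fun m => by simp), MonObj.one_comp]
  haveI : Nontrivial Q := by
    obtain ⟨f, -⟩ := hker _ h1
    exact f.toRingHom.domain_nontrivial
  let g₁ : Multiplicative N →* Q ⊗[k] Q :=
    ((Algebra.TensorProduct.includeLeft : Q →ₐ[k] Q ⊗[k] Q) : Q →* Q ⊗[k] Q).comp g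
  let g₂ : Multiplicative N →* Q ⊗[k] Q :=
    ((Algebra.TensorProduct.includeRight : Q →ₐ[k] Q ⊗[k] Q) : Q →* Q ⊗[k] Q).comp g
  have hg : ∀ {C : Type u} [CommRing C] [Algebra k C] (f : Q →ₐ[k] C),
      (idChart k N).pt ((f : Q →* C).comp g) ≫ u = 1 := fun {C} _ _ f => by
    rw [← (idChart k N).nat, Category.assoc, hgker, MonObj.comp_one]
  letI iQQ : CommRing (Q ⊗[k] Q) := inferInstance
  let g₁₂ : Multiplicative N →* Q ⊗[k] Q :=
    { toFun := fun m => g₁ m * g₂ m
      map_one' := by rw [map_one, map_one, _root_.one_mul]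
      map_mul' := fun a b => by rw [map_mul, map_mul, mul_mul_mul_comm] }
  obtain ⟨Δ, hΔ⟩ := hker (C := Q ⊗[k] Q) g₁₂ (by
    have e : (idChart k N).pt g₁₂ = (idChart k N).pt (C := Q ⊗[k] Q) g₁ * (idChart k N).pt g₂ :=
      (idChart k N).pt_mul (C := Q ⊗[k] Q) g₁ g₂
    rw [e, MonObj.mul_comp]
    exact (congrArg₂ (· * ·) (hg (C := Q ⊗[k] Q) Algebra.TensorProduct.includeLeft)
      (hg (C := Q ⊗[k] Q) Algebra.TensorProduct.includeRight)).trans (_root_.one_mul _))
  have hΔg : ∀ m, Δ (g m) = g m ⊗ₜ g m := fun m => by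
    rw [hΔ]
    show (g m ⊗ₜ[k] (1 : Q)) * ((1 : Q) ⊗ₜ[k] g m) = _
    rw [Algebra.TensorProduct.tmul_mul_tmul, _root_.mul_one, _root_.one_mul]
  let A : AddSubgroup N := AddMonoidHom.ker (MonoidHom.toAdditiveRight g.toHomUnits)
  have hA : ∀ n, n ∈ A ↔ g (Multiplicative.ofAdd n) = 1 := fun n => by
    show Additive.ofMul (g.toHomUnits (Multiplicative.ofAdd n)) = 0 ↔ _
    rw [ofMul_eq_zero, ← Units.val_inj]
    rfl
  refine ⟨A, fun T _ t => forall_of_affine t u A fun C _ _ χ => ⟨fun h n hn => ?_, fun h => (hI C χ).2 fun x hx => ?_⟩⟩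
  · obtain ⟨f, hf⟩ := hker χ h
    rw [← hf, (hA n).1 hn, map_one]
  · -- group the coefficients by the values of `g`
    have hzero : ∑ m ∈ x.coeff.support, x.coeff m • g m = 0 := by
      have h2 : evalAt g x = 0 := by rw [hq]; exact Ideal.Quotient.eq_zero_iff_mem.2 hx
      rw [evalAt, MonoidAlgebra.lift_apply] at h2
      exact h2
    have hχg : ∀ m m', g m = g m' → χ m = χ m' := fun m m' e => by
      have h3 : g (m / m') = 1 := by
        have h5 : g (m / m') * g m' = g m' := by rw [← map_mul, div_mul_cancel, e]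
        exact (((Group.isUnit m').map g).mul_eq_right).1 h5
      have h4 : χ (m / m') = 1 := h (m / m').toAdd ((hA _).2 h3)
      rw [show m = m / m' * m' from (div_mul_cancel m m').symm, map_mul, h4, _root_.one_mul]
    rw [← Finset.sum_fiberwise_of_maps_to (g := g) (t := x.coeff.support.image g)
      (fun m hm => Finset.mem_image_of_mem _ hm)] at hzero
    have hcoef : ∀ a ∈ x.coeff.support.image g, ∑ m ∈ x.coeff.support.filter (fun m => g m = a), x.coeff m = 0 := by
      have hLI := linearIndependent_diag Δ.toLinearMap (x.coeff.support.image g) (fun a ha => by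
        obtain ⟨m, -, rfl⟩ := Finset.mem_image.1 ha
        exact ⟨hΔg m, ((Group.isUnit m).map g).ne_zero⟩)
      intro a ha
      refine Fintype.linearIndependent_iff.1 hLI
        (fun b => ∑ m ∈ x.coeff.support.filter (fun m => g m = (b : Q)), x.coeff m) ?_ ⟨a, ha⟩
      rw [← hzero]
      refine (Finset.sum_coe_sort (x.coeff.support.image g) (fun b =>
        (∑ m ∈ x.coeff.support.filter (fun m => g m = b), x.coeff m) • b)).trans (Finset.sum_congr rfl fun b _ => ?_)
      rw [Finset.sum_smul]
      exact Finset.sum_congr rfl fun m hm => by rw [(Finset.mem_filter.1 hm).2]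
    rw [evalAt, MonoidAlgebra.lift_apply, Finsupp.sum,
      ← Finset.sum_fiberwise_of_maps_to (g := g) (t := x.coeff.support.image g)
      (fun m hm => Finset.mem_image_of_mem _ hm)]
    refine Finset.sum_eq_zero fun a ha => ?_
    obtain ⟨m₀, -, hm₀⟩ := Finset.mem_image.1 ha
    have h5 : ∀ m ∈ x.coeff.support.filter (fun m => g m = a), x.coeff m • χ m = x.coeff m • χ m₀ :=
      fun m hm => by rw [hχg m m₀ ((Finset.mem_filter.1 hm).2.trans hm₀.symm)]
    rw [Finset.sum_congr rfl h5, ← Finset.sum_smul, hcoef a ha, zero_smul]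

end Groth.L25.SplitSub
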