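import Groth.Agent.L25.SplitSub.KernelBC
import Groth.Agent.L25.SplitSub.KernelField
import Groth.Agent.S6059

/-!
# The kernel of a homomorphism out of a split group is locally cut out by characters
-/

set_option autoImplicit false
universe u

open CategoryTheory CategoryTheory.Limits MonoidalCategory CartesianMonoidalCategory AlgebraicGeometry
open TopologicalSpace
open scoped MonObj

set_option backward.isDefEq.respectTransparency.types false
set_option linter.style.haveILetI false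

noncomputable section

namespace Groth.L25.SplitSub

open Cocycle

variable {N : Type} [AddCommGroup N]

theorem imp_of_affine {R : Type u} [CommRing R] {G : Over (Spec (CommRingCat.of R))} [GrpObj G]
    (u : Red.DS (Spec (CommRingCat.of R)) N ⟶ G) (A : AddSubgroup N)
    (h : ∀ (C : Type u) [CommRing C] [Algebra R C] (χ : Multiplicative N →* C),
      (∀ n ∈ A, χ (Multiplicative.ofAdd n) = 1) → (idChart R N).pt χ ≫ u = 1) : Imp u Set.univ A := by
  classical
  intro T _ t ht
  let aff := {W : T.left.Opens // IsAffineOpen W}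
  let Y : aff → Over (Spec (CommRingCat.of R)) := fun W => Over.mk (W.2.fromSpec ≫ T.hom)
  let c : ∀ W, Y W ⟶ T := fun W => Over.homMk W.2.fromSpec rfl
  haveI : ∀ W, Flat (c W).left := fun W => inferInstanceAs (Flat W.2.fromSpec)
  have hc : ∀ x : T.left, ∃ W, x ∈ Set.range (c W).left := fun x => by
    obtain ⟨_, ⟨W, hW, rfl⟩, hx, -⟩ := T.left.isBasis_affineOpens.exists_subset_of_mem_open
      (Set.mem_univ x) isOpen_univ
    exact ⟨⟨W, hW⟩, (hW.range_fromSpec).ge hx⟩
  refine eq_of_cover c hc fun W => ?_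
  letI : Algebra R Γ(T.left, W.1) := (Spec.preimage (W.2.fromSpec ≫ T.hom)).hom.toAlgebra
  have he : Spec.map (CommRingCat.ofHom (algebraMap R Γ(T.left, W.1))) ≫ 𝟙 _ = W.2.fromSpec ≫ T.hom := by
    rw [Category.comp_id, RingHom.algebraMap_toAlgebra]
    exact Spec.map_preimage _
  let e : X (𝟙 _) Γ(T.left, W.1) ⟶ Y W := Over.homMk (𝟙 _) ((Category.id_comp _).trans he.symm)
  have : IsIso e.left := inferInstanceAs (IsIso (𝟙 _))
  have : IsIso ((Over.forget _).map e) := this
  have : IsIso e := isIso_of_reflects_iso e (Over.forget _)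
  obtain ⟨χ, hχ⟩ := ((idChart R N).bij Γ(T.left, W.1)).2 (e ≫ c W ≫ t)
  have h1 := h Γ(T.left, W.1) χ fun n hn => by
    have h2 := (ht.comp (c W)).comp e n hn
    rw [← hχ] at h2
    simp only [idChart, stdChart, DSPts.char_pt] at h2
    exact (ConcreteCategory.bijective_of_isIso (Scheme.ΓSpecIso (CommRingCat.of Γ(T.left, W.1))).inv).1
      (h2.trans (map_one _).symm)
  rw [hχ] at h1
  simp only [Category.assoc] at h1
  rw [← cancel_epi e, MonObj.comp_one, MonObj.comp_one]
  exact h1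

theorem le_of_kills {K : Type u} [Field K] (A B : AddSubgroup N)
    (h : ∀ (T : Over (Spec (CommRingCat.of K))) (t : T ⟶ Red.DS (Spec (CommRingCat.of K)) N), Kills A t → Kills B t) :
    B ≤ A := by
  intro n hn
  let C : Type u := MonoidAlgebra K (Multiplicative (N ⧸ A))
  let χ : Multiplicative N →* Γ(Spec (CommRingCat.of C), ⊤) :=
    (Scheme.ΓSpecIso (CommRingCat.of C)).inv.hom.toMonoidHom.comp ((MonoidAlgebra.of K _).comp
      (AddMonoidHom.toMultiplicative (QuotientAddGroup.mk' A)))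
  let t : Over.mk (Spec.map (CommRingCat.ofHom (algebraMap K C))) ⟶ Red.DS (Spec (CommRingCat.of K)) N := DSPts.pt χ
  have hk : Kills A t := fun a ha => by
    rw [DSPts.char_pt]
    show (Scheme.ΓSpecIso (CommRingCat.of C)).inv.hom (MonoidAlgebra.of K _ (Multiplicative.ofAdd (QuotientAddGroup.mk' A a))) = 1
    rw [(QuotientAddGroup.eq_zero_iff a).2 ha |> fun e => show QuotientAddGroup.mk' A a = 0 from e, ofAdd_zero,
      map_one, map_one]
  have h1 := h _ t hk n hn
  rw [DSPts.char_pt] at h1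
  have h2 : MonoidAlgebra.of K (Multiplicative (N ⧸ A)) (Multiplicative.ofAdd (QuotientAddGroup.mk' A n)) =
      MonoidAlgebra.of K (Multiplicative (N ⧸ A)) 1 := by
    rw [map_one]
    exact (ConcreteCategory.bijective_of_isIso (Scheme.ΓSpecIso (CommRingCat.of C)).inv).1
      (h1.trans (map_one _).symm)
  exact (QuotientAddGroup.eq_zero_iff n).1 (Multiplicative.ofAdd.injective (MonoidAlgebra.of_injective h2))

theorem isMultTypeFT_DS (S : Scheme.{u}) (M : Type) [AddCommGroup M] (hM : AddGroup.FG M) :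
    SGA3x.IsMultTypeFT (Red.DS S M) :=
  ⟨S, 𝟙 S, inferInstance, inferInstance, fun V hV => ⟨V, hV.isCompact, Set.image_id _⟩,
    fun s => ⟨⊤, trivial, M, inferInstance, hM, ⟨Grp.mkIso' (bcDS _)⟩⟩⟩

theorem comp_incl_char {S : Scheme.{u}} (A : AddSubgroup N) {T : Over S} (t : T ⟶ Red.DS S N) (a : A) :
    DSPts.char (t ≫ incl S A) (Multiplicative.ofAdd a) = DSPts.char t (Multiplicative.ofAdd (a : N)) := by
  rw [incl, char_DSmap]
  rfl

/-- A point forced into the kernel of `A` comes from the quotient of `A`. -/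
theorem exists_factor_quot {S : Scheme.{u}} {M : Type} [AddCommGroup M] (A' : AddSubgroup M) {T : Over S}
    (b : T ⟶ Red.DS S M) (hb : Kills A' b) :
    ∃ b' : T ⟶ Red.DS S (M ⧸ A'), b' ≫ Red.DSmap S (QuotientAddGroup.mk' A') = b := by
  let f : M →+ Additive Γ(T.left, ⊤) := MonoidHom.toAdditiveRight (DSPts.char b)
  have hf : A' ≤ f.ker := fun m hm => by
    show Additive.ofMul (DSPts.char b (Multiplicative.ofAdd m)) = 0
    rw [hb m hm, ofMul_one]
  refine ⟨DSPts.pt (AddMonoidHom.toMultiplicativeLeft (QuotientAddGroup.lift A' f hf)), DSPts.char_injective ?_⟩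
  rw [char_DSmap, DSPts.char_pt]
  rfl

theorem eq_one_of_flat_surjective {S : Scheme.{u}} {G : Over S} [GrpObj G] {T T' : Over S} (c : T' ⟶ T)
    [Flat c.left] (hs : Surjective c.left) {t : T ⟶ G} (h : c ≫ t = 1) : t = 1 :=
  eq_of_cover (I := PUnit) (fun _ => c) (fun x => ⟨⟨⟩, hs.surj x⟩) fun _ => by rw [h, MonObj.comp_one]

/-- being forced into the kernel by `A'` spreads out from a point -/
theorem exists_nhd_kills {S : Scheme.{u}} {M : Type} [AddCommGroup M] (hM : AddGroup.FG M) (A' : AddSubgroup M)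
    {G : Over S} [GrpObj G] [IsSeparated G.hom] [LocallyOfFinitePresentation G.hom] [QuasiCompact G.hom]
    (v : Red.DS S M ⟶ G) [IsMonHom v] (p : S)
    (hp : ∀ (T : Over S) (_ : T ⟶ Over.mk (S.fromSpecResidueField p)) (b : T ⟶ Red.DS S M),
      Kills A' b → b ≫ v = 1) :
    ∃ U : S.Opens, p ∈ U ∧ ∀ (T : Over S), (∀ y, T.hom y ∈ U) → ∀ b : T ⟶ Red.DS S M, Kills A' b → b ≫ v = 1 := by
  haveI := hM
  let mk' := QuotientAddGroup.mk' A'
  have hQfg : AddGroup.FG (M ⧸ A') := inferInstance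
  have : IsMonHom (Red.DSmap S mk') := TorusTorsion.isMonHom_DSmap S mk'
  let w := Red.DSmap S mk' ≫ v
  have : IsMonHom w := inferInstance
  obtain ⟨U, -, hU, hUone⟩ := TrivLocus.main (isMultTypeFT_DS S _ hQfg)
    (Or.inr ⟨‹_›, ‹_›, inferInstance⟩) w
  refine ⟨U, (hU p).2 ((TrivLocus.triv_iff_map w _).1 fun Y q a => ?_), fun T hT b hb => ?_⟩
  · show a ≫ Red.DSmap S mk' ≫ v = 1
    rw [← Category.assoc]
    refine hp Y q _ fun n hn => ?_
    rw [char_DSmap]
    show DSPts.char a (Multiplicative.ofAdd (mk' n)) = 1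
    rw [show mk' n = 0 from (QuotientAddGroup.eq_zero_iff _).2 hn, ofAdd_zero, map_one]
  · obtain ⟨b', rfl⟩ := exists_factor_quot A' b hb
    obtain ⟨a⟩ := exists_over_of_range U.ι (T := T) fun y => by
      rw [Scheme.Opens.range_ι]
      exact hT y
    rw [Category.assoc]
    exact (TrivLocus.triv_iff_map w _).2 hUone T a b'

section Local

variable {R : Type u} [CommRing R] {G : Over (Spec (CommRingCat.of R))} [GrpObj G]
  [IsSeparated G.hom] [LocallyOfFinitePresentation G.hom] [QuasiCompact G.hom]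
  (u : Red.DS (Spec (CommRingCat.of R)) N ⟶ G) [IsMonHom u]

/-- the kernel near a point: characters of the fibre cut it out in a neighbourhood -/
theorem exists_imp_nhd (p : Spec (CommRingCat.of R)) :
    ∃ (U : (Spec (CommRingCat.of R)).Opens) (A : AddSubgroup N), p ∈ U ∧ A.FG ∧ Imp u (U : Set _) A ∧
      ∀ (T : Over (Spec (CommRingCat.of R))) (_ : T ⟶ Over.mk ((Spec (CommRingCat.of R)).fromSpecResidueField p))
        (t : T ⟶ Red.DS (Spec (CommRingCat.of R)) N), t ≫ u = 1 ↔ Kills A t := by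
  obtain ⟨Γ₀, hfg, hΓ₀⟩ := exists_fg_bound u
  have himp := imp_of_affine u Γ₀ hΓ₀
  obtain ⟨v, hvm, hv⟩ := exists_factor_of_imp u himp
  let κ : Type u := (Spec (CommRingCat.of R)).residueField p
  let k : Spec (CommRingCat.of κ) ⟶ (Spec (CommRingCat.of R)) := (Spec (CommRingCat.of R)).fromSpecResidueField p
  have hs : IsSeparated (Red.bc k G).hom := MorphismProperty.pullback_snd _ _ ‹IsSeparated G.hom›
  have hl : LocallyOfFiniteType (Red.bc k G).hom :=
    MorphismProperty.pullback_snd _ _ (inferInstance : LocallyOfFiniteType G.hom)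
  have := isMonHom_bcHom k u
  obtain ⟨Λ, hΛ⟩ := exists_good_field (bcHom k u)
  have hfib : ∀ (T : Over (Spec (CommRingCat.of R))) (_ : T ⟶ Over.mk k) (t : T ⟶ Red.DS (Spec (CommRingCat.of R)) N), t ≫ u = 1 ↔ Kills Λ t := by
    intro T a t
    obtain ⟨T', t', i, hi, -⟩ := exists_upPt k a t
    rw [← comp_eq_one_iso_iff i, ← Category.assoc, hi, downPt_comp_eq_one_iff, hΛ T' (fun _ => Set.mem_univ _),
      ← kills_downPt_iff k, ← hi, kills_iso_iff]
  have hle : Λ ≤ Γ₀ := le_of_kills (K := κ) Γ₀ Λ fun T t ht =>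
    (hΛ T (fun _ => Set.mem_univ _) t).1 ((downPt_comp_eq_one_iff k u t).1
      (himp _ (fun _ => Set.mem_univ _) _ ((kills_downPt_iff k t Γ₀).2 ht)))
  let A' : AddSubgroup Γ₀ := Λ.comap Γ₀.subtype
  obtain ⟨U, hp, hUimp⟩ := exists_nhd_kills (M := Γ₀) ((AddGroup.fg_iff_addSubgroup_fg Γ₀).2 hfg) A' v p
    fun T q b hb => by
    obtain ⟨T', c, t, hcf, hcs, ht⟩ := exists_lift_incl Γ₀ b
    haveI := hcf
    refine eq_one_of_flat_surjective c hcs ?_
    have h1 : t ≫ u = 1 := (hfib T' (c ≫ q) t).2 fun n hn => by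
      have h2 := comp_incl_char Γ₀ t ⟨n, hle hn⟩
      rw [ht] at h2
      exact h2.symm.trans ((hb.comp c) ⟨n, hle hn⟩ hn)
    rw [← hv, ← Category.assoc, ht] at h1
    simp only [Category.assoc] at h1
    exact h1
  have hfgΛ : Λ.FG := by
    haveI : AddGroup.FG Γ₀ := (AddGroup.fg_iff_addSubgroup_fg Γ₀).2 hfg
    haveI : Module.Finite ℤ Γ₀ := Module.Finite.iff_addGroup_fg.2 inferInstance
    haveI : IsNoetherian ℤ Γ₀ := inferInstance
    have h1 : A'.FG := by
      have := IsNoetherian.noetherian (AddSubgroup.toIntSubmodule A')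
      rwa [Submodule.fg_iff_addSubgroup_fg, AddSubgroup.toIntSubmodule_toAddSubgroup] at this
    rw [show Λ = A'.map Γ₀.subtype from (AddSubgroup.map_comap_eq_self (by rwa [AddSubgroup.range_subtype])).symm]
    classical
    obtain ⟨g, hg⟩ := h1
    exact ⟨g.image Γ₀.subtype, by rw [Finset.coe_image, ← AddMonoidHom.map_closure, hg]⟩
  refine ⟨U, Λ, hp, hfgΛ, fun T hT t ht => ?_, hfib⟩
  have h2 := hUimp T hT (t ≫ incl _ Γ₀) fun n hn => by
    rw [comp_incl_char]
    exact ht _ hn
  rw [Category.assoc, hv] at h2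
  exact h2

theorem exists_good_nhd (p : Spec (CommRingCat.of R)) :
    ∃ (U : (Spec (CommRingCat.of R)).Opens) (A : AddSubgroup N), p ∈ U ∧ A.FG ∧ Good u (U : Set _) A := by
  obtain ⟨U, Λ, hp, hfg, himp, hfib⟩ := exists_imp_nhd u p
  let u₁ := bcHom U.ι u
  have := isMonHom_bcHom U.ι u
  have himp₁ : Imp u₁ Set.univ Λ := by
    intro T _ t ht
    exact himp.bc u U.ι T (fun y => (T.hom y).2) t ht
  obtain ⟨v, hvm, hv⟩ := exists_factor_of_imp u₁ himp₁
  have : IsSeparated (Red.bc U.ι G).hom := MorphismProperty.pullback_snd _ _ ‹IsSeparated G.hom›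
  have hlfp : LocallyOfFinitePresentation (Red.bc U.ι G).hom :=
    MorphismProperty.pullback_snd _ _ ‹LocallyOfFinitePresentation G.hom›
  let x : (U : Scheme.{u}) := ⟨p, hp⟩
  let k' := (U : Scheme.{u}).fromSpecResidueField x
  have hmapm : IsMonHom ((Over.pullback k').map v) := ((Over.pullback k').mapGrp.map
    (Grp.homMk'' (A := Grp.mk (Red.DS _ Λ)) (B := Grp.mk (Red.bc U.ι G)) v (IsMonHom.one_hom v)
      (IsMonHom.mul_hom v))).hom.isMonHom_hom
  have hmono : Mono ((Over.pullback k').map v) := mono_of_ker _ fun T y hy => by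
    let a := NilAction.toBase k' y
    have ha : a ≫ v = 1 := by
      have h1 : NilAction.ofBase k' (a ≫ v) = 1 := by
        rw [← NilAction.ofBase_comp, NilAction.ofBase_toBase, hy]
      rw [← NilAction.toBase_ofBase k' (a ≫ v), h1, NilAction.toBase_one]
    obtain ⟨T', c, t, hcf, hcs, ht⟩ := exists_lift_incl Λ a
    haveI := hcf
    have h1 : t ≫ u₁ = 1 := by
      rw [← hv, ← Category.assoc, ht, Category.assoc, ha, MonObj.comp_one]
    have h2 : downPt U.ι t ≫ u = 1 := (downPt_comp_eq_one_iff U.ι u t).2 h1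
    let r := Spec.map (U.ι.residueFieldMap x)
    have hr : r ≫ (Spec (CommRingCat.of R)).fromSpecResidueField p = k' ≫ U.ι :=
      U.ι.SpecMap_residueFieldMap_fromSpecResidueField x
    let q : Over.mk (T'.hom ≫ U.ι) ⟶ Over.mk ((Spec (CommRingCat.of R)).fromSpecResidueField p) := Over.homMk (c.left ≫ T.hom ≫ r) (by
      show (c.left ≫ T.hom ≫ r) ≫ (Spec (CommRingCat.of R)).fromSpecResidueField p = T'.hom ≫ U.ι
      rw [Category.assoc, Category.assoc, hr, ← Over.w c, Category.assoc]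
      rfl)
    have h3 : Kills Λ t := (kills_downPt_iff U.ι t Λ).1 ((hfib _ q _).1 h2)
    have h4 : a = 1 := eq_one_of_flat_surjective c hcs (by rw [← ht, (kills_incl_iff Λ t).2 h3])
    rw [← NilAction.ofBase_toBase k' y, show NilAction.toBase k' y = 1 from h4, ← NilAction.toBase_one k',
      NilAction.ofBase_toBase]
  haveI : Mono ((Over.pullback k').map v).left := inferInstance
  obtain ⟨U₂, hx, hU₂⟩ := Groth.Agent.S6059.result (Red.DS (U : Scheme.{u}) Λ) (Red.bc U.ι G)
    (isMultTypeFT_DS _ _ ((AddGroup.fg_iff_addSubgroup_fg Λ).2 hfg)) (Or.inr hlfp) v x this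
  haveI : Mono ((Over.pullback U₂.ι).map v) := by
    haveI := hU₂
    exact Over.mono_of_mono_left _
  have hgood : Good u₁ (U₂ : Set _) Λ := by
    intro T hT t
    refine ⟨fun h => (kills_incl_iff Λ t).1 ?_, himp₁ T (fun _ => Set.mem_univ _) t⟩
    rw [← hv, ← Category.assoc] at h
    obtain ⟨a⟩ := exists_over_of_range U₂.ι (T := T) fun y => by
      rw [Scheme.Opens.range_ι]
      exact hT y
    let T' : Over U₂.toScheme := Over.mk a.left
    let i : Over.mk (T'.hom ≫ U₂.ι) ≅ T := Over.isoMk (Iso.refl _) ((Category.id_comp _).trans (Over.w a).symm)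
    have hmapm' : IsMonHom ((Over.pullback U₂.ι).map v) := ((Over.pullback U₂.ι).mapGrp.map
      (Grp.homMk'' (A := Grp.mk (Red.DS _ Λ)) (B := Grp.mk (Red.bc U.ι G)) v (IsMonHom.one_hom v)
        (IsMonHom.mul_hom v))).hom.isMonHom_hom
    have h1 : NilAction.ofBase U₂.ι (i.hom ≫ t ≫ incl _ Λ) ≫ (Over.pullback U₂.ι).map v = 1 := by
      rw [NilAction.ofBase_comp, Category.assoc, h, MonObj.comp_one, ← NilAction.toBase_one U₂.ι,
        NilAction.ofBase_toBase]
    have h2 : NilAction.ofBase U₂.ι (i.hom ≫ t ≫ incl _ Λ) = 1 := by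
      rw [← cancel_mono ((Over.pullback U₂.ι).map v), h1, MonObj.one_comp]
    have h3 : i.hom ≫ t ≫ incl _ Λ = 1 := by
      rw [← NilAction.toBase_ofBase U₂.ι (i.hom ≫ t ≫ incl _ Λ), h2, NilAction.toBase_one]
    rwa [comp_eq_one_iso_iff] at h3
  exact ⟨U.ι ''ᵁ U₂, Λ, ⟨x, hx, rfl⟩, hfg, Good.of_bc u U.ι hgood⟩

end Local

/-- The kernel of a homomorphism from a split group into a separated group of finite presentation is cut out
by finitely generated groups of characters, locally on the base. -/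
theorem exists_good_of_separated {S : Scheme.{u}} {G : Over S} [GrpObj G] [IsSeparated G.hom]
    [LocallyOfFinitePresentation G.hom] [QuasiCompact G.hom] (u : Red.DS S N ⟶ G) [IsMonHom u] (s : S) :
    ∃ U : S.Opens, s ∈ U ∧ ∃ A : AddSubgroup N, A.FG ∧ Good u (U : Set S) A := by
  obtain ⟨_, ⟨V, hV, rfl⟩, hsV, -⟩ := S.isBasis_affineOpens.exists_subset_of_mem_open
    (Set.mem_univ s) isOpen_univ
  obtain ⟨p, rfl⟩ := hV.range_fromSpec.ge hsV
  let j : Spec (CommRingCat.of Γ(S, V)) ⟶ S := hV.fromSpec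
  have : IsOpenImmersion j := inferInstanceAs (IsOpenImmersion hV.fromSpec)
  have : IsSeparated (Red.bc j G).hom := MorphismProperty.pullback_snd _ _ ‹IsSeparated G.hom›
  have : LocallyOfFinitePresentation (Red.bc j G).hom :=
    MorphismProperty.pullback_snd _ _ ‹LocallyOfFinitePresentation G.hom›
  have : QuasiCompact (Red.bc j G).hom := MorphismProperty.pullback_snd _ _ ‹QuasiCompact G.hom›
  have := isMonHom_bcHom j u
  obtain ⟨U, A, hp, hfg, hgood⟩ := exists_good_nhd (bcHom j u) p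
  exact ⟨j ''ᵁ U, ⟨p, hp, rfl⟩, A, hfg, Good.of_bc u j hgood⟩

/-- The constancy set of the characters cutting out the kernel is open and closed. -/
theorem exists_good_clopen {S : Scheme.{u}} {G : Over S} [GrpObj G] [IsSeparated G.hom]
    [LocallyOfFinitePresentation G.hom] [QuasiCompact G.hom] (u : Red.DS S N ⟶ G) [IsMonHom u] (s : S) :
    ∃ U : S.Opens, s ∈ U ∧ IsClosed (U : Set S) ∧ ∃ A : AddSubgroup N, A.FG ∧ Good u (U : Set S) A := by
  choose W hW Af hfg hgood using exists_good_of_separated u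
  have hlc : IsLocallyConstant Af := (IsLocallyConstant.iff_exists_open Af).2 fun z =>
    ⟨W z, (W z).2, hW z, fun y hy => (hgood y).unique u (hgood z) (hW y) hy⟩
  refine ⟨⟨Af ⁻¹' {Af s}, hlc.isOpen_fiber (Af s)⟩, rfl, hlc.isClosed_fiber (Af s), Af s, hfg s, fun T hT t => ?_⟩
  let Y : S → Over S := fun z => Over.mk ((T.hom ⁻¹ᵁ W z).ι ≫ T.hom)
  let c : ∀ z, Y z ⟶ T := fun z => Over.homMk (T.hom ⁻¹ᵁ W z).ι rfl
  haveI : ∀ z, Flat (c z).left := fun z => inferInstanceAs (Flat (T.hom ⁻¹ᵁ W z).ι)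
  let c' : ∀ z : {z // Af z = Af s}, Y z.1 ⟶ T := fun z => c z.1
  haveI : ∀ z, Flat (c' z).left := fun z => inferInstanceAs (Flat (c z.1).left)
  have hc' : ∀ x : T.left, ∃ z : {z // Af z = Af s}, x ∈ Set.range (c' z).left :=
    fun x => ⟨⟨T.hom x, hT x⟩, ⟨x, hW _⟩, rfl⟩
  have key : ∀ z : {z // Af z = Af s}, (c' z ≫ t) ≫ u = 1 ↔ Kills (Af s) (c' z ≫ t) := fun z => by
    have h2 := hgood z.1 (Y z.1) (fun y => y.2) (c' z ≫ t)
    rwa [z.2] at h2
  constructor
  · intro h
    exact Kills.of_cover c' hc' fun z => (key z).1 (by rw [Category.assoc, h, MonObj.comp_one])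
  · intro h
    exact eq_of_cover c' hc' fun z => by
      rw [MonObj.comp_one, ← Category.assoc]
      exact (key z).2 (h.comp (c' z))

end Groth.L25.SplitSub
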