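import Groth.Prelude.Def_Red
import Groth.Agent.L24.Retract.Torus
import Mathlib.RingTheory.FiniteType
import Mathlib.RingTheory.FinitePresentation
import Mathlib.RingTheory.Smooth.Basic
import Mathlib.RingTheory.Ideal.Quotient.Nilpotent
import Mathlib.AlgebraicGeometry.Morphisms.Smooth
import Mathlib.Algebra.MonoidAlgebra.NoZeroDivisors

/-!
# Split tori are smooth with connected fibres
-/

set_option autoImplicit false
universe u

open CategoryTheory CategoryTheory.Limits AlgebraicGeometry

set_option linter.style.haveILetI false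
set_option backward.isDefEq.respectTransparency.types false

noncomputable section

namespace Groth.L25.SplitSub

theorem formallySmooth_torus (R : Type u) [CommRing R] (r : ℕ) :
    Algebra.FormallySmooth R (MonoidAlgebra R (Multiplicative (Fin r → ℤ))) := by
  classical
  refine .of_comp_surjective fun B _ _ I hI f => ?_
  let F := Multiplicative (Fin r → ℤ)
  let g : F →* (B ⧸ I)ˣ := MonoidHom.toHomUnits ((f : MonoidAlgebra R F →* B ⧸ I).comp (MonoidAlgebra.of R F))
  have hl : ∀ v : (B ⧸ I)ˣ, ∃ w : Bˣ, Ideal.Quotient.mk I (w : B) = v := fun v => by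
    obtain ⟨b, hb⟩ := Ideal.Quotient.mk_surjective (v : B ⧸ I)
    have hu : IsUnit b := (IsNilpotent.isUnit_quotient_mk_iff (⟨2, by rw [hI]; rfl⟩ : IsNilpotent I)).1 (by rw [hb]; exact v.isUnit)
    exact ⟨hu.unit, hb⟩
  choose w hw using fun i : Fin r => hl (g (Multiplicative.ofAdd (Pi.single i 1)))
  let ψ : (Fin r → ℤ) →+ Additive Bˣ :=
    ∑ i, (zmultiplesHom (Additive Bˣ) (Additive.ofMul (w i))).comp (Pi.evalAddMonoidHom (fun _ => ℤ) i)
  let χ : F →* B := (Units.coeHom B).comp (AddMonoidHom.toMultiplicativeLeft ψ)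
  refine ⟨MonoidAlgebra.lift R B F χ, AlgHom.coe_ringHom_injective (MonoidAlgebra.ringHom_ext
    (fun c => (AlgHom.commutes ((Ideal.Quotient.mkₐ R I).comp (MonoidAlgebra.lift R B F χ)) c).trans (f.commutes c).symm)
    fun m => ?_)⟩
  let q : Bˣ →* (B ⧸ I)ˣ := Units.map (Ideal.Quotient.mk I).toMonoidHom
  suffices h : (MonoidHom.toAdditive q).comp ψ = AddMonoidHom.toMultiplicativeLeft.symm g by
    have h1 := congrArg (fun v => ((Additive.toMul v : (B ⧸ I)ˣ) : B ⧸ I)) (DFunLike.congr_fun h m.toAdd)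
    simp only [RingHom.coe_coe, AlgHom.comp_apply, MonoidAlgebra.lift_single, one_smul, Ideal.Quotient.mkₐ_eq_mk]
    exact h1
  refine AddMonoidHom.functions_ext' _ _ _ fun i => AddMonoidHom.ext_int ?_
  have hψ : ψ (Pi.single i 1) = Additive.ofMul (w i) := by
    simp only [ψ, AddMonoidHom.finsetSum_apply, AddMonoidHom.comp_apply, Pi.evalAddMonoidHom_apply,
      zmultiplesHom_apply]
    rw [Finset.sum_eq_single i (fun j _ hj => by rw [Pi.single_eq_of_ne hj, zero_zsmul])
      (fun h => absurd (Finset.mem_univ i) h), Pi.single_eq_same, one_zsmul]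
  show MonoidHom.toAdditive q (ψ (Pi.single i 1)) = _
  rw [hψ]
  exact congrArg Additive.ofMul (Units.ext (hw i))

theorem smooth_DS (S : Scheme.{u}) (r : ℕ) : Smooth (Red.DS S (Fin r → ℤ)).hom := by
  let R := ULift.{u} ℤ
  let A := MonoidAlgebra R (Multiplicative (Fin r → ℤ))
  haveI : Monoid.FG (Multiplicative (Fin r → ℤ)) :=
    AddMonoid.fg_iff_mul_fg.1 (AddGroup.fg_iff_addMonoid_fg.1 (Module.Finite.iff_addGroup_fg.1 inferInstance))
  haveI : IsNoetherianRing R := isNoetherianRing_of_ringEquiv ℤ ULift.ringEquiv.symm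
  haveI : Algebra.Smooth R A :=
    ⟨formallySmooth_torus R r, Algebra.FinitePresentation.of_finiteType.1 inferInstance⟩
  haveI : Smooth (Red.diag R (Fin r → ℤ)).hom :=
    (HasRingHomProperty.Spec_iff (P := @Smooth)).2 (RingHom.smooth_algebraMap.2 ‹_›)
  exact MorphismProperty.pullback_snd _ _ ‹Smooth (Red.diag R (Fin r → ℤ)).hom›

theorem connectedSpace_DS_fibre (S : Scheme.{u}) (r : ℕ) (s : S) :
    ConnectedSpace ↥(pullback (Red.DS S (Fin r → ℤ)).hom (S.fromSpecResidueField s)) := by
  let K : Type u := S.residueField s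
  let M := Fin r → ℤ
  let q : Spec (CommRingCat.of K) ⟶ S := S.fromSpecResidueField s
  let t := Limits.IsTerminal.from specULiftZIsTerminal S
  have sqD : IsPullback (pullback.fst (Red.diag (ULift.{u} ℤ) M).hom t) (Red.DS S M).hom
      (Red.diag (ULift.{u} ℤ) M).hom t := IsPullback.of_hasPullback _ _
  have sq2 := (IsPullback.of_hasPullback (Red.DS S M).hom q).paste_horiz sqD
  letI : Algebra (ULift.{u} ℤ) K := ((Int.castRingHom K).comp ULift.ringEquiv.toRingHom).toAlgebra
  rw [show q ≫ t = Spec.map (CommRingCat.ofHom (algebraMap (ULift.{u} ℤ) K)) from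
    specULiftZIsTerminal.hom_ext _ _] at sq2
  obtain ⟨e₂, -⟩ := Groth.L24.Retract.exists_iso_of_isPullback_diag (ULift.{u} ℤ) K M sq2
  haveI : IsDomain (MonoidAlgebra K (Multiplicative M)) := NoZeroDivisors.to_isDomain _
  haveI : ConnectedSpace ↥(Spec (CommRingCat.of (MonoidAlgebra K (Multiplicative M)))) :=
    inferInstanceAs (ConnectedSpace (PrimeSpectrum (MonoidAlgebra K (Multiplicative M))))
  exact Function.Surjective.connectedSpace (Scheme.homeoOfIso e₂).symm.surjective
    (Scheme.homeoOfIso e₂).symm.continuous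

end Groth.L25.SplitSub
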