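import Groth.Agent.L25.SplitSub.SchImage
import Groth.Agent.L25.HomSmooth.Main

/-!
# The image of a homomorphism out of a group of multiplicative type of arbitrary type
-/

set_option autoImplicit false
universe u

open CategoryTheory CategoryTheory.Limits MonoidalCategory CartesianMonoidalCategory AlgebraicGeometry
open TopologicalSpace
open scoped MonObj

set_option backward.isDefEq.respectTransparency.types false
set_option linter.style.haveILetI false

noncomputable section

namespace Groth.L25.SplitSub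

variable {S : Scheme.{u}}

/-- Transporting a factorisation over a smaller base along the identification of iterated base changes. -/
theorem exists_transported {S₁ S₂ : Scheme.{u}} (k : S₂ ⟶ S₁) (d : S₁ ⟶ S) {d' : S₂ ⟶ S} (hk : k ≫ d = d')
    {H G : Over S} [GrpObj H] [GrpObj G] (f : H ⟶ G) {M : Type} [AddCommGroup M] (A : AddSubgroup M)
    (e : Red.bc d H ≅ Red.DS S₁ M) (he : IsMonHom e.hom) (v : Red.DS S₂ A ⟶ Red.bc k (Red.bc d G))
    (hvm : IsMonHom v) (hvc : IsClosedImmersion v.left)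
    (hv : incl S₂ A ≫ v = bcHom k (e.inv ≫ (Over.pullback d).map f)) :
    ∃ (π : Red.bc d' H ⟶ Red.DS S₂ A) (v' : Red.DS S₂ A ⟶ Red.bc d' G),
      IsMonHom π ∧ IsMonHom v' ∧ Flat π.left ∧ Surjective π.left ∧ IsClosedImmersion v'.left ∧
      π ≫ v' = (Over.pullback d').map f := by
  let cH := ActBC.bcCompIso k d H hk
  let cG := ActBC.bcCompIso k d G hk
  let ek : Red.bc k (Red.bc d H) ⟶ Red.bc k (Red.DS S₁ M) := (Over.pullback k).map e.hom
  have hek : IsMonHom ek := MonoClosed.isMonHom_pullbackMap k e.hom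
  haveI : IsIso ek := inferInstanceAs (IsIso ((Over.pullback k).map e.hom))
  have hcH : IsMonHom cH.inv := (Grp.mkIso' cH).inv.hom.isMonHom_hom
  have hcG : IsMonHom cG.hom := (Grp.mkIso' cG).hom.hom.isMonHom_hom
  obtain ⟨hfl, hsurj, -⟩ := DSmap_cover (S := S₂) A.subtype A.subtype_injective
  haveI : IsIso ek.left := inferInstanceAs (IsIso ((Over.forget _).map ek))
  haveI : IsIso cH.inv.left := inferInstanceAs (IsIso ((Over.forget _).map cH.inv))
  haveI : IsIso cG.hom.left := inferInstanceAs (IsIso ((Over.forget _).map cG.hom))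
  haveI : IsIso (bcDS (N := M) k).hom.left := inferInstanceAs (IsIso ((Over.forget _).map (bcDS (N := M) k).hom))
  haveI : Flat (incl S₂ A).left := hfl
  haveI : Surjective (incl S₂ A).left := hsurj
  refine ⟨cH.inv ≫ ek ≫ (bcDS k).hom ≫ incl _ A, v ≫ cG.hom,
    MonoClosed.isMonHom_comp' hcH (MonoClosed.isMonHom_comp' hek
      (MonoClosed.isMonHom_comp' (isMonHom_bcDS k) (isMonHom_incl A))),
    MonoClosed.isMonHom_comp' hvm hcG, ?_, ?_, ?_, ?_⟩
  · rw [Over.comp_left, Over.comp_left, Over.comp_left]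
    infer_instance
  · rw [Over.comp_left, Over.comp_left, Over.comp_left]
    infer_instance
  · haveI := hvc
    rw [Over.comp_left]
    infer_instance
  · have h1 : ek ≫ (bcDS k).hom ≫ bcHom k (e.inv ≫ (Over.pullback d).map f) =
        (Over.pullback k).map ((Over.pullback d).map f) := by
      rw [bcDS_hom_bcHom, ← Functor.map_comp, Iso.hom_inv_id_assoc]
    simp only [Category.assoc]
    rw [reassoc_of% hv, reassoc_of% h1, ActBC.bcCompIso_hom_naturality k d hk f, Iso.inv_hom_id_assoc]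

/-- A homomorphism out of a group which is split on an open of the cover is, near each point, a faithfully
flat homomorphism onto a split group with finitely generated characters followed by a closed immersion. -/
theorem exists_local_image {H G : Over S} [GrpObj H] [GrpObj G] [IsSeparated G.hom]
    [LocallyOfFinitePresentation G.hom] [QuasiCompact G.hom] (f : H ⟶ G) [IsMonHom f] {S' : Scheme.{u}}
    (g : S' ⟶ S) {U : S'.Opens} {M : Type} [AddCommGroup M]
    (e : Grp.mk (Red.bc (U.ι ≫ g) H) ≅ Grp.mk (Red.DS U.toScheme M)) {z : S'} (hz : z ∈ U) :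
    ∃ (U' : S'.Opens), z ∈ U' ∧ ∃ (A : AddSubgroup M), AddGroup.FG A ∧
      ∃ (π : Red.bc (U'.ι ≫ g) H ⟶ Red.DS U'.toScheme A) (v : Red.DS U'.toScheme A ⟶ Red.bc (U'.ι ≫ g) G),
        IsMonHom π ∧ IsMonHom v ∧ Flat π.left ∧ Surjective π.left ∧ IsClosedImmersion v.left ∧
        π ≫ v = (Over.pullback (U'.ι ≫ g)).map f := by
  let d := U.ι ≫ g
  haveI : IsSeparated (Red.bc d G).hom := MorphismProperty.pullback_snd _ _ ‹IsSeparated G.hom›
  haveI : LocallyOfFinitePresentation (Red.bc d G).hom :=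
    MorphismProperty.pullback_snd _ _ ‹LocallyOfFinitePresentation G.hom›
  haveI : QuasiCompact (Red.bc d G).hom := MorphismProperty.pullback_snd _ _ ‹QuasiCompact G.hom›
  have hfd : IsMonHom ((Over.pullback d).map f) := MonoClosed.isMonHom_pullbackMap _ _
  let e₀ : Red.bc d H ≅ Red.DS U.toScheme M := (Grp.forget _).mapIso e
  have he₀ : IsMonHom e₀.hom := e.hom.hom.isMonHom_hom
  have he₀' : IsMonHom e₀.inv := e.inv.hom.isMonHom_hom
  let u₀ : Red.DS U.toScheme M ⟶ Red.bc d G := e₀.inv ≫ (Over.pullback d).map f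
  haveI : IsMonHom u₀ := MonoClosed.isMonHom_comp' he₀' hfd
  obtain ⟨W, hzW, -, A, hfg, hgood⟩ := exists_good_clopen u₀ ⟨z, hz⟩
  have hAfg : AddGroup.FG A := (AddGroup.fg_iff_addSubgroup_fg A).2 hfg
  let U' : S'.Opens := U.ι ''ᵁ W
  have hr : Set.range U'.ι ⊆ Set.range U.ι := by
    rw [Scheme.Opens.range_ι, Scheme.Opens.range_ι]
    exact fun x hx => U.ι_image_le W hx
  let k : U'.toScheme ⟶ U.toScheme := IsOpenImmersion.lift U.ι U'.ι hr
  have hk : k ≫ d = U'.ι ≫ g := IsOpenImmersion.lift_fac_assoc _ _ _ _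
  let u₁ := bcHom k u₀
  haveI : IsMonHom u₁ := isMonHom_bcHom k u₀
  have hW : k ⁻¹' (W : Set U.toScheme) = Set.univ := Set.eq_univ_of_forall fun y => by
    obtain ⟨w, hw, hwy⟩ := (show U'.ι y ∈ U.ι ''ᵁ W from y.2)
    have h1 : U.ι (k y) = U'.ι y := by
      rw [← Scheme.Hom.comp_apply]
      exact congrArg (fun m : U'.toScheme ⟶ S' => m y) (IsOpenImmersion.lift_fac U.ι U'.ι hr)
    rw [Set.mem_preimage, show k y = w from U.ι.isOpenEmbedding.injective (h1.trans hwy.symm)]
    exact hw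
  have hgood₁ : Good u₁ Set.univ A := hW ▸ Good.bc u₀ k hgood
  obtain ⟨v₁, hvm, hvmono, hv₁⟩ := exists_factor u₁ hgood₁
  haveI := hvm
  haveI := hvmono
  haveI : Module.Finite ℤ A := Module.Finite.iff_addGroup_fg.2 hAfg
  haveI : IsSeparated (Red.bc k (Red.bc d G)).hom := MorphismProperty.pullback_snd _ _ ‹IsSeparated (Red.bc d G).hom›
  haveI : LocallyOfFiniteType (Red.bc k (Red.bc d G)).hom :=
    MorphismProperty.pullback_snd _ _ (inferInstance : LocallyOfFiniteType (Red.bc d G).hom)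
  haveI : QuasiCompact (Red.bc k (Red.bc d G)).hom :=
    MorphismProperty.pullback_snd _ _ ‹QuasiCompact (Red.bc d G).hom›
  have hvc : IsClosedImmersion v₁.left := MonoClosed.isClosedImmersion_DS v₁
  obtain ⟨π, v, hπ⟩ := exists_transported k d hk f A e₀ he₀ v₁ hvm hvc hv₁
  exact ⟨U', ⟨⟨z, hz⟩, hzW, rfl⟩, A, hAfg, π, v, hπ⟩

/-- The image of a homomorphism out of a group of multiplicative type (of arbitrary type) into a separated group
of finite presentation, together with its local description. -/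
theorem exists_image_of_locally {H G : Over S} [GrpObj H] [GrpObj G] [IsSeparated G.hom]
    [LocallyOfFinitePresentation G.hom] [QuasiCompact G.hom]
    (hH : TwC.Locally S TwC.Topology.fpqc (fun S' g => ∃ (M : Type) (_ : AddCommGroup M),
      Nonempty (Grp.mk (Red.bc g H) ≅ Grp.mk (Red.DS S' M)))) (f : H ⟶ G) [IsMonHom f] :
    ∃ (Q : Over S) (_ : GrpObj Q) (j : Q ⟶ G) (_ : IsMonHom j) (q : H ⟶ Q) (_ : IsMonHom q),
      IsClosedImmersion j.left ∧ SGA3x.IsMultTypeFT Q ∧ Flat q.left ∧ Surjective q.left ∧ q ≫ j = f := by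
  haveI := HomSmooth.isAffineHom_of_locally hH
  haveI : QuasiCompact f.left := by
    have : QuasiCompact (f.left ≫ G.hom) := by rw [Over.w f]; infer_instance
    exact QuasiCompact.of_comp f.left G.hom
  obtain ⟨S', g, hflat, hsurj, hqc, hloc⟩ := hH
  haveI := hflat
  obtain ⟨Q, hQ, j, hjm, q, hqm, h1, h2, h3, h4, h5, -⟩ := SchImage.exists_image f g hsurj hqc fun z => by
    obtain ⟨U, hzU, M, inst, ⟨e⟩⟩ := hloc z
    letI := inst
    obtain ⟨U', hzU', A, hA, π, v, hπ, hv, hπf, hπs, hvc, hfac⟩ := exists_local_image f g e hzU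
    exact ⟨U', hzU', Red.DS U'.toScheme A, inferInstance, isMultTypeFT_DS _ A hA, π, v, hπ, hv, hπf, hπs, hvc,
      hfac⟩
  exact ⟨Q, hQ, j, hjm, q, hqm, h1, h2, h3, h4, h5⟩

/-- Two faithfully flat factorisations through closed subschemes coincide. -/
theorem exists_iso_of_images {H G Q₁ Q₂ : Over S} {j₁ : Q₁ ⟶ G} {j₂ : Q₂ ⟶ G} [IsClosedImmersion j₁.left]
    [IsClosedImmersion j₂.left] (f₁ : H ⟶ Q₁) (f₂ : H ⟶ Q₂) (h₁ : Flat f₁.left) (h₁' : Surjective f₁.left)
    (h₂ : Flat f₂.left) (h₂' : Surjective f₂.left) (h : f₁ ≫ j₁ = f₂ ≫ j₂) :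
    ∃ e : Q₁ ≅ Q₂, e.hom ≫ j₂ = j₁ ∧ f₁ ≫ e.hom = f₂ := by
  obtain ⟨e, he1, he2⟩ := SchImage.exists_iso_of_two_factor f₁.left j₁.left f₂.left j₂.left
    (SchImage.ker_eq_bot_of_flat_surjective f₁.left h₁') (SchImage.ker_eq_bot_of_flat_surjective f₂.left h₂')
    (congrArg (fun m => m.left) h)
  exact ⟨Over.isoMk e (by rw [← Over.w j₂, ← Category.assoc, he1]; exact Over.w j₁), Over.OverMorphism.ext he1,
    Over.OverMorphism.ext he2⟩

end Groth.L25.SplitSub
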