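import Groth.Agent.L25.DSPts
import Groth.Agent.L25.TorusTorsion
import Groth.Agent.L25.Cocycle.Local
import Mathlib.RingTheory.RingHom.FaithfullyFlat
import Mathlib.RingTheory.Flat.FaithfullyFlat.Algebra
import Mathlib.AlgebraicGeometry.Morphisms.Flat
import Mathlib.GroupTheory.QuotientGroup.Basic

/-!
# Functoriality of diagonalisable groups on characters
-/

set_option autoImplicit false
universe u

open CategoryTheory CategoryTheory.Limits MonoidalCategory CartesianMonoidalCategory AlgebraicGeometry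
open scoped MonObj

set_option backward.isDefEq.respectTransparency.types false
set_option linter.style.haveILetI false

noncomputable section

namespace Groth.L25.SplitSub

variable {S : Scheme.{u}} {M N : Type} [AddCommGroup M] [AddCommGroup N]

/-- The character of the image of a point. -/
theorem char_DSmap {T : Over S} (t : T ⟶ Red.DS S N) (φ : M →+ N) :
    DSPts.char (t ≫ Red.DSmap S φ) = (DSPts.char t).comp (AddMonoidHom.toMultiplicative φ) := by
  refine MonoidHom.ext fun m => ?_
  let ψ : CommRingCat.of (DSPts.Coord.{u} M) ⟶ CommRingCat.of (DSPts.Coord.{u} N) :=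
    CommRingCat.ofHom (MonoidAlgebra.mapDomainAlgHom (ULift.{u} ℤ) (ULift.{u} ℤ)
      (AddMonoidHom.toMultiplicative φ)).toRingHom
  have h1 : DSPts.specPt (t ≫ Red.DSmap S φ) = DSPts.specPt t ≫ Spec.map ψ := by
    rw [DSPts.specPt, DSPts.specPt, Over.comp_left, Category.assoc, Category.assoc]
    exact congrArg (t.left ≫ ·) (DSPts.pullback_map_left_fst (S := S) (Red.diagMap (ULift.{u} ℤ) φ))
  have h2 : (DSPts.coordIso M).inv ≫ (DSPts.specPt (t ≫ Red.DSmap S φ)).appTop =
      ψ ≫ (DSPts.coordIso N).inv ≫ (DSPts.specPt t).appTop := by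
    rw [h1, Scheme.Hom.comp_appTop, ← Category.assoc, ← Category.assoc]
    exact congrArg (· ≫ (DSPts.specPt t).appTop) (Scheme.ΓSpecIso_inv_naturality ψ).symm
  show ((DSPts.coordIso M).inv ≫ (DSPts.specPt (t ≫ Red.DSmap S φ)).appTop) (DSPts.mon M m) = _
  rw [h2]
  show DSPts.ringHomOfPt t (ψ (DSPts.mon M m)) = _
  rw [show ψ (DSPts.mon M m) = DSPts.mon N (AddMonoidHom.toMultiplicative φ m) from MonoidAlgebra.mapDomain_single]
  rfl

open Cocycle in
/-- The chart of a split group over any affine scheme. -/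
def stdChart {R : Type u} [CommRing R] (j : Spec (CommRingCat.of R) ⟶ S) (M : Type) [AddCommGroup M] :
    Chart j (Red.DS S M) (Multiplicative M) where
  pt {C} _ _ χ := DSPts.pt ((Scheme.ΓSpecIso (CommRingCat.of C)).inv.hom.toMonoidHom.comp χ)
  pt_mul {C} _ _ χ ψ := by
    rw [← DSPts.pt_mul]
    exact congrArg _ (MonoidHom.ext fun m => map_mul (Scheme.ΓSpecIso (CommRingCat.of C)).inv.hom (χ m) (ψ m))
  bij C _ _ := by
    refine ⟨fun χ ψ h => MonoidHom.ext fun m => ?_, fun g => ?_⟩
    · have h1 := DFunLike.congr_fun (congrArg DSPts.char h) m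
      rw [DSPts.char_pt, DSPts.char_pt] at h1
      exact (ConcreteCategory.bijective_of_isIso (Scheme.ΓSpecIso (CommRingCat.of C)).inv).1 h1
    · refine ⟨(Scheme.ΓSpecIso (CommRingCat.of C)).hom.hom.toMonoidHom.comp (DSPts.char g), ?_⟩
      refine DSPts.char_injective (MonoidHom.ext fun m => ?_)
      rw [DSPts.char_pt]
      exact Iso.hom_inv_id_apply (Scheme.ΓSpecIso (CommRingCat.of C)) _
  nat {C D} _ _ _ _ h χ := by
    refine DSPts.char_injective (MonoidHom.ext fun m => ?_)
    rw [DSPts.char_comp, DSPts.char_pt, DSPts.char_pt]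
    exact (congrArg (fun k => k.hom (χ m)) (Scheme.ΓSpecIso_inv_naturality (CommRingCat.ofHom h.toRingHom))).symm

theorem stdChart_pt_DSmap {R : Type u} [CommRing R] (j : Spec (CommRingCat.of R) ⟶ S) {C : Type u} [CommRing C]
    [Algebra R C] (χ : Multiplicative N →* C) (φ : M →+ N) :
    (stdChart j N).pt χ ≫ Red.DSmap S φ = (stdChart j M).pt (χ.comp (AddMonoidHom.toMultiplicative φ)) := by
  refine DSPts.char_injective (MonoidHom.ext fun m => ?_)
  rw [char_DSmap]
  simp only [stdChart, DSPts.char_pt]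
  rfl

/-- A group algebra is faithfully flat over the group algebra of a subgroup. -/
theorem faithfullyFlat_mapDomain (R : Type u) [CommRing R] [Nontrivial R] {Y Z : Type} [CommGroup Y] [CommGroup Z]
    (f : Y →* Z) (hf : Function.Injective f) : (MonoidAlgebra.mapDomainRingHom R f).FaithfullyFlat := by
  classical
  let C := MonoidAlgebra R Y
  let D := MonoidAlgebra R Z
  let F : C →+* D := MonoidAlgebra.mapDomainRingHom R f
  letI : Algebra C D := F.toAlgebra
  show Module.FaithfullyFlat C D
  let rep : Z ⧸ f.range → Z := fun c => c.out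
  have hrep : ∀ z : Z, ∃ y : Y, z = f y * rep (z : Z ⧸ f.range) := fun z => by
    have h : ((z : Z ⧸ f.range).out)⁻¹ * z ∈ f.range :=
      QuotientGroup.eq.1 (QuotientGroup.out_eq' (z : Z ⧸ f.range))
    obtain ⟨y, hy⟩ := h
    exact ⟨y, by rw [hy, mul_comm, mul_inv_cancel_left]⟩
  choose part hpart using hrep
  have hcls : ∀ (y : Y) (c : Z ⧸ f.range), ((f y * rep c : Z) : Z ⧸ f.range) = c := fun y c => by
    have h1 : ((f y : Z) : Z ⧸ f.range) = 1 := (QuotientGroup.eq_one_iff (N := f.range) (f y)).2 ⟨y, rfl⟩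
    rw [QuotientGroup.mk_mul, h1, one_mul]
    exact QuotientGroup.out_eq' c
  let Φ : ((Z ⧸ f.range) →₀ C) →ₗ[C] D :=
    Finsupp.linearCombination C fun c => (MonoidAlgebra.single (rep c) 1 : D)
  have hΦ : ∀ (c : Z ⧸ f.range) (y : Y) (r : R),
      Φ (Finsupp.single c (MonoidAlgebra.single y r)) = MonoidAlgebra.single (f y * rep c) r := by
    intro c y r
    rw [Finsupp.linearCombination_single, Algebra.smul_def]
    show F _ * _ = _
    rw [show F (MonoidAlgebra.single y r) = _ from MonoidAlgebra.mapDomain_single,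
      MonoidAlgebra.single_mul_single, _root_.mul_one]
  let Ψ : D →+ ((Z ⧸ f.range) →₀ C) :=
    (Finsupp.liftAddHom fun z : Z => (Finsupp.singleAddHom (z : Z ⧸ f.range)).comp
      (MonoidAlgebra.singleAddHom (part z))).comp (MonoidAlgebra.coeffAddEquiv).toAddMonoidHom
  have hΨ : ∀ (z : Z) (r : R), Ψ (MonoidAlgebra.single z r) =
      Finsupp.single (z : Z ⧸ f.range) (MonoidAlgebra.single (part z) r) := by
    intro z r
    show Finsupp.liftAddHom _ (Finsupp.single z r) = _
    simp
  have h1 : ∀ x, Φ (Ψ x) = x := by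
    intro x
    induction x using MonoidAlgebra.induction_linear with
    | zero => simp
    | add x y hx hy => rw [map_add, map_add, hx, hy]
    | single z r => rw [hΨ, hΦ, ← hpart]
  have h2 : ∀ x, Ψ (Φ x) = x := by
    intro x
    induction x using Finsupp.induction_linear with
    | zero => simp
    | add x y hx hy => rw [map_add, map_add, hx, hy]
    | single c y =>
      induction y using MonoidAlgebra.induction_linear with
      | zero => simp
      | add x y hx hy => rw [Finsupp.single_add, map_add, map_add, hx, hy]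
      | single n r =>
        rw [hΦ, hΨ, hcls]
        congr 2
        have h := hpart (f n * rep c)
        rw [hcls] at h
        exact (hf (mul_right_cancel h)).symm
  let E : ((Z ⧸ f.range) →₀ C) ≃ₗ[C] D := LinearEquiv.ofBijective Φ
    ⟨Function.LeftInverse.injective h2, Function.RightInverse.surjective h1⟩
  exact Module.FaithfullyFlat.of_linearEquiv _ _ E.symm

/-- An injective map of characters gives a faithfully flat affine morphism. -/
theorem DSmap_cover (φ : M →+ N) (hφ : Function.Injective φ) :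
    Flat (Red.DSmap S φ).left ∧ Surjective (Red.DSmap S φ).left ∧ IsAffineHom (Red.DSmap S φ).left := by
  let ψ := (MonoidAlgebra.mapDomainAlgHom (ULift.{u} ℤ) (ULift.{u} ℤ) (AddMonoidHom.toMultiplicative φ)).toRingHom
  have hff : ψ.FaithfullyFlat := faithfullyFlat_mapDomain (ULift.{u} ℤ) (AddMonoidHom.toMultiplicative φ) hφ
  refine ⟨MorphismProperty.overPullbackMap (P := @Flat) _ (Red.diagMap (ULift.{u} ℤ) φ) ?_,
    MorphismProperty.overPullbackMap (P := @Surjective) _ (Red.diagMap (ULift.{u} ℤ) φ) ?_,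
    MorphismProperty.overPullbackMap (P := @IsAffineHom) _ (Red.diagMap (ULift.{u} ℤ) φ) ?_⟩
  · exact (HasRingHomProperty.Spec_iff (P := @Flat)).2 hff.flat
  · exact (surjective_iff _).2 (RingHom.FaithfullyFlat.iff_flat_and_comap_surjective.1 hff).2
  · exact inferInstanceAs (IsAffineHom (Spec.map (CommRingCat.ofHom ψ)))

/-- A set open after a flat covering is open. -/
theorem isOpen_of_preimage {S' : Scheme.{u}} (f : S' ⟶ S) [Flat f]
    (hqc : ∀ V : S.Opens, IsAffineOpen V → ∃ W : S'.Opens, IsCompact (W : Set S') ∧ f.base '' (W : Set S') = (V : Set S))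
    (A : Set S) (hA : IsOpen (f ⁻¹' A)) : IsOpen A := by
  rw [isOpen_iff_forall_mem_open]
  intro s hs
  obtain ⟨_, ⟨V₀, hV, rfl⟩, hsV, -⟩ := S.isBasis_affineOpens.exists_subset_of_mem_open
    (Set.mem_univ s) isOpen_univ
  let V : S.Opens := V₀
  obtain ⟨W, hW, hWV⟩ := hqc V hV
  have hWle : W ≤ f ⁻¹ᵁ V := fun z hz => by
    show f z ∈ (V : Set S)
    rw [← hWV]; exact ⟨z, hz, rfl⟩
  let q := f.resLE V W hWle
  have : CompactSpace W := isCompact_iff_compactSpace.mp hW
  have : IsAffine V.toScheme := hV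
  have : Flat q := by
    have : Flat (q ≫ V.ι) := by rw [Scheme.Hom.resLE_comp_ι]; infer_instance
    exact MorphismProperty.of_postcomp (W := @Flat) (W' := @IsOpenImmersion) q V.ι inferInstance this
  have hqval : ∀ z, (q z).1 = f z.1 := fun z => by
    change (q ≫ V.ι) z = _
    rw [Scheme.Hom.resLE_comp_ι]
    rfl
  have : Surjective q := ⟨fun a => by
    obtain ⟨z, hz, e⟩ := hWV.ge a.2
    exact ⟨⟨z, hz⟩, Subtype.ext ((hqval _).trans e)⟩⟩
  have : QuasiCompact q := inferInstance
  have h1 : IsOpen (Subtype.val ⁻¹' A : Set V) := by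
    rw [← (Flat.isQuotientMap_of_surjective q).isCoinducing.isOpen_preimage]
    have : q ⁻¹' (Subtype.val ⁻¹' A : Set V) = Subtype.val ⁻¹' (f ⁻¹' A) := by
      ext z
      show (q z).1 ∈ A ↔ f z.1 ∈ A
      rw [hqval z]
    rw [this]
    exact hA.preimage continuous_subtype_val
  exact ⟨Subtype.val '' (Subtype.val ⁻¹' A : Set V), Set.image_preimage_subset _ _,
    V.2.isOpenEmbedding_subtypeVal.isOpenMap _ h1, ⟨⟨s, hsV⟩, hs, rfl⟩⟩

end Groth.L25.SplitSub
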