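import Groth.Agent.L25.SplitSub.Image

/-!
# Gluing factorisations through a monomorphism
-/

set_option autoImplicit false
universe u

open CategoryTheory CategoryTheory.Limits AlgebraicGeometry
open TopologicalSpace

set_option backward.isDefEq.respectTransparency.types false
set_option linter.style.haveILetI false

noncomputable section

namespace Groth.L25.SplitSub

variable {S : Scheme.{u}}

/-- A morphism factors through a monomorphism if it does so locally. -/
theorem exists_lift_of_local {X T T₀ : Over S} (j : T₀ ⟶ T) [Mono j] (a : X ⟶ T)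
    (h : ∀ x : X.left, ∃ W : X.left.Opens, x ∈ W ∧ ∃ b : W.toScheme ⟶ T₀.left, b ≫ j.left = W.ι ≫ a.left) :
    ∃ g : X ⟶ T₀, g ≫ j = a := by
  choose W hW b hb using h
  haveI : Mono j.left := Over.mono_left_of_mono j
  let 𝒰 := X.left.openCoverOfIsOpenCover W (TopologicalSpace.IsOpenCover.mk
    (top_le_iff.1 fun z _ => Opens.mem_iSup.2 ⟨z, hW z⟩))
  let g := 𝒰.glueMorphisms b fun x y => by
    rw [← cancel_mono j.left, Category.assoc, Category.assoc]
    exact ((congrArg (_ ≫ ·) (hb x)).trans ((Category.assoc _ _ _).symm.trans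
      ((congrArg (· ≫ a.left) (pullback.condition (f := 𝒰.f x) (g := 𝒰.f y))).trans (Category.assoc _ _ _)))).trans
        (congrArg (_ ≫ ·) (hb y)).symm
  have hg : g ≫ j.left = a.left := 𝒰.hom_ext _ _ fun x => by
    rw [← Category.assoc, 𝒰.ι_glueMorphisms]
    exact hb x
  exact ⟨Over.homMk g (by rw [← Over.w j, reassoc_of% hg, Over.w a]), Over.OverMorphism.ext hg⟩

/-- A morphism factors through a monomorphism if it does so after restricting to the members of a cover of the base. -/
theorem exists_lift_of_local_base {X T T₀ : Over S} (j : T₀ ⟶ T) [Mono j] (a : X ⟶ T)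
    (h : ∀ s : S, ∃ U : S.Opens, s ∈ U ∧ ∃ g : Red.bc U.ι X ⟶ Red.bc U.ι T₀,
      g ≫ (Over.pullback U.ι).map j = (Over.pullback U.ι).map a) :
    ∃ g : X ⟶ T₀, g ≫ j = a := by
  refine exists_lift_of_local j a fun x => ?_
  obtain ⟨U, hU, g, hg⟩ := h (X.hom x)
  let W : X.left.Opens := X.hom ⁻¹ᵁ U
  let sec : W.toScheme ⟶ (Red.bc U.ι X).left :=
    pullback.lift W.ι (X.hom ∣_ U) (morphismRestrict_ι X.hom U).symm
  refine ⟨W, hU, sec ≫ g.left ≫ pullback.fst T₀.hom U.ι, ?_⟩
  have h1 := congrArg (fun m => m.left ≫ pullback.fst T.hom U.ι) hg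
  simp only [Over.comp_left, Category.assoc] at h1
  rw [ActBC.pullback_map_left_fst U.ι j, ActBC.pullback_map_left_fst U.ι a] at h1
  simp only [Category.assoc]
  rw [h1]
  exact pullback.lift_fst_assoc _ _ _ _

end Groth.L25.SplitSub
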