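import Groth.Agent.L25.SplitSub.QuotLocal
import Groth.Agent.L25.SplitSub.Glue

/-!
# The rank of a locally split torus
-/

set_option autoImplicit false
universe u

open CategoryTheory CategoryTheory.Limits MonoidalCategory CartesianMonoidalCategory AlgebraicGeometry
open TopologicalSpace
open scoped MonObj

set_option backward.isDefEq.respectTransparency.types false
set_option linter.style.haveILetI false

noncomputable section

namespace Groth.L25.SplitSub

variable {S : Scheme.{u}}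

/-- A monomorphism of split tori does not lower the rank. -/
theorem rank_le_of_mono (hS : Nonempty S) {r r' : ℕ} (u : Red.DS S (Fin r → ℤ) ⟶ Red.DS S (Fin r' → ℤ))
    [IsMonHom u] [Mono u] : r ≤ r' := by
  haveI : Monoid.FG (Multiplicative (Fin r' → ℤ)) :=
    monoidFG_of_addGroupFG (Module.Finite.iff_addGroup_fg.1 inferInstance)
  obtain ⟨U, hU, φ, hφ⟩ := exists_local_DSmap u hS.some
  have hgood : Good u U φ.range := fun T hT t => by rw [hφ T hT t, kills_range_iff]
  have hsurj : Function.Surjective φ := AddMonoidHom.range_eq_top.1 (Good.eq_top u hgood hU)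
  have hle := LinearMap.finrank_range_le φ.toIntLinearMap
  rwa [LinearMap.range_eq_top.2 hsurj, finrank_top, Module.finrank_fin_fun, Module.finrank_fin_fun] at hle

/-- A torus is split of rank `r` near `s`. -/
def HasRank (E : Over S) [GrpObj E] (s : S) (r : ℕ) : Prop :=
  ∃ U : S.Opens, s ∈ U ∧ Red.IsSplitTorusWith (Fin r → ℤ) (Red.bc U.ι E)

theorem split_restrict {V W : S.Opens} (hVW : V ≤ W) {X : Over S} [GrpObj X] {M : Type} [AddCommGroup M]
    (h : Red.IsSplitTorusWith M (Red.bc W.ι X)) : Red.IsSplitTorusWith M (Red.bc V.ι X) := by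
  obtain ⟨e⟩ := h
  exact ⟨TrivLocus.restrictIso W.ι (S.homOfLE hVW) e (Scheme.homOfLE_ι _ _)⟩

theorem HasRank.le {E E' : Over S} [GrpObj E] [GrpObj E'] (g : E ⟶ E') [IsMonHom g] [Mono g] {s : S} {r r' : ℕ}
    (h : HasRank E s r) (h' : HasRank E' s r') : r ≤ r' := by
  obtain ⟨U, hU, hr⟩ := h
  obtain ⟨U', hU', hr'⟩ := h'
  let V := U ⊓ U'
  obtain ⟨p, p', hp, hp', hpp', hp'p, hpi⟩ := exists_std (split_restrict (inf_le_left : V ≤ U) hr)
  obtain ⟨q, q', hq, hq', hqq', hq'q, hqi⟩ := exists_std (split_restrict (inf_le_right : V ≤ U') hr')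
  haveI : IsIso q' := ⟨q, hq'q, hqq'⟩
  haveI := hpi
  haveI : Mono ((Over.pullback V.ι).map g) := inferInstance
  haveI : IsMonHom (p ≫ (Over.pullback V.ι).map g ≫ q') :=
    isMonHom_comp hp (isMonHom_comp (isMonHom_map V.ι g) hq')
  haveI : Mono (p ≫ (Over.pullback V.ι).map g ≫ q') := inferInstance
  exact rank_le_of_mono (S := V.toScheme) ⟨⟨s, hU, hU'⟩⟩ (p ≫ (Over.pullback V.ι).map g ≫ q')

theorem HasRank.unique {E : Over S} [GrpObj E] {s : S} {r r' : ℕ} (h : HasRank E s r) (h' : HasRank E s r') :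
    r = r' :=
  le_antisymm (h.le (𝟙 E) h') (h'.le (𝟙 E) h)

theorem exists_rank {E : Over S} [GrpObj E]
    (h : ∀ s : S, ∃ U : S.Opens, s ∈ U ∧ ∃ r : ℕ, Red.IsSplitTorusWith (Fin r → ℤ) (Red.bc U.ι E)) :
    ∃ rk : S → ℕ, IsLocallyConstant rk ∧ ∀ s, HasRank E s (rk s) := by
  choose U hU r hr using h
  refine ⟨r, (IsLocallyConstant.iff_exists_open r).2 fun s => ⟨U s, (U s).2, hU s, fun x hx => ?_⟩,
    fun s => ⟨U s, hU s, hr s⟩⟩
  exact HasRank.unique ⟨U x, hU x, hr x⟩ ⟨U s, hx, hr s⟩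

/-- A monomorphism which becomes an isomorphism over a cover of the base is one. -/
theorem isIso_of_local_base {X Y : Over S} (u : X ⟶ Y) [Mono u]
    (h : ∀ s : S, ∃ U : S.Opens, s ∈ U ∧ IsIso ((Over.pullback U.ι).map u)) : IsIso u := by
  obtain ⟨g, hg⟩ := exists_lift_of_local_base u (𝟙 Y) fun s => by
    obtain ⟨U, hU, hi⟩ := h s
    exact ⟨U, hU, inv ((Over.pullback U.ι).map u), by rw [IsIso.inv_hom_id, CategoryTheory.Functor.map_id]⟩
  exact ⟨g, by rw [← cancel_mono u, Category.assoc, hg, Category.comp_id, Category.id_comp], hg⟩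

/-- A monomorphism of locally split tori of non-increasing rank is an isomorphism. -/
theorem isIso_of_rank {E E' : Over S} [GrpObj E] [GrpObj E'] (g : E ⟶ E') [IsMonHom g] [Mono g]
    {rk rk' : S → ℕ} (h : ∀ s, HasRank E s (rk s)) (h' : ∀ s, HasRank E' s (rk' s)) (hle : ∀ s, rk' s ≤ rk s) :
    IsIso g := by
  refine isIso_of_local_base g fun s => ?_
  obtain ⟨U, hU, hr⟩ := h s
  obtain ⟨U', hU', hr'⟩ := h' s
  let V := U ⊓ U'
  obtain ⟨p, p', hp, hp', hpp', hp'p, hpi⟩ := exists_std (split_restrict (inf_le_left : V ≤ U) hr)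
  obtain ⟨q, q', hq, hq', hqq', hq'q, hqi⟩ := exists_std (split_restrict (inf_le_right : V ≤ U') hr')
  haveI : IsIso q' := ⟨q, hq'q, hqq'⟩
  haveI := hpi
  haveI : Mono ((Over.pullback V.ι).map g) := inferInstance
  haveI : IsMonHom (p ≫ (Over.pullback V.ι).map g ≫ q') :=
    isMonHom_comp hp (isMonHom_comp (isMonHom_map V.ι g) hq')
  haveI : Mono (p ≫ (Over.pullback V.ι).map g ≫ q') := inferInstance
  haveI := isIso_of_mono_split (hle s) (p ≫ (Over.pullback V.ι).map g ≫ q')
  haveI : IsIso ((Over.pullback V.ι).map g ≫ q') :=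
    IsIso.of_isIso_comp_left p ((Over.pullback V.ι).map g ≫ q')
  exact ⟨V, ⟨hU, hU'⟩, IsIso.of_isIso_comp_right ((Over.pullback V.ι).map g) q'⟩

theorem isMonHom_of_comp_mono {X Y Z : Over S} [GrpObj X] [GrpObj Y] [GrpObj Z] (g : X ⟶ Y) (j : Y ⟶ Z)
    [IsMonHom j] [Mono j] (h : IsMonHom (g ≫ j)) : IsMonHom g :=
  isMonHom_of_mul g fun T a b => by
    rw [← cancel_mono j, Category.assoc, @MonObj.mul_comp _ _ _ _ _ _ _ _ a b (g ≫ j) h,
      MonObj.mul_comp, Category.assoc, Category.assoc]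

end Groth.L25.SplitSub
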