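import Groth.Agent.L25.SplitSub.Subtori
import Groth.Agent.L25.MultTypeBC
import Mathlib.AlgebraicGeometry.Morphisms.UniversallyOpen

/-!
# Quotients of split tori by subgroups of multiplicative type
-/

set_option autoImplicit false
universe u

open CategoryTheory CategoryTheory.Limits MonoidalCategory CartesianMonoidalCategory AlgebraicGeometry
open TopologicalSpace
open scoped MonObj

set_option backward.isDefEq.respectTransparency.types false
set_option linter.style.haveILetI false

noncomputable section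

namespace Groth.L25.SplitSub

variable {S : Scheme.{u}}

/-- `q` is a flat covering whose kernel is cut out by `i`. -/
def IsQuot {H G Q : Over S} [GrpObj Q] (i : H ⟶ G) (q : G ⟶ Q) : Prop :=
  Flat q.left ∧ Surjective q.left ∧ LocallyOfFinitePresentation q.left ∧
    ∀ (T : Over S) (t : T ⟶ G), t ≫ q = 1 ↔ ∃ h : T ⟶ H, h ≫ i = t

theorem toBase_map {U : Scheme.{u}} (g : U ⟶ S) {X Y : Over S} (f : X ⟶ Y) {T : Over U} (t : T ⟶ Red.bc g X) :
    NilAction.toBase g (t ≫ (Over.pullback g).map f) = NilAction.toBase g t ≫ f := by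
  refine Over.OverMorphism.ext ?_
  simp only [NilAction.toBase, Over.homMk_left, Over.comp_left, Category.assoc]
  rw [ActBC.pullback_map_left_fst g f]

theorem toBase_injective {U : Scheme.{u}} (g : U ⟶ S) {X : Over S} {T : Over U} :
    Function.Injective (NilAction.toBase g : (T ⟶ Red.bc g X) → _) := fun a b h => by
  rw [← NilAction.ofBase_toBase g a, h, NilAction.ofBase_toBase]

theorem isQuot_of_isQuotient {H G Q : Over S} [GrpObj G] [GrpObj H] [GrpObj Q] (i : H ⟶ G) (q : G ⟶ Q)
    [IsMonHom q] (hq : RedSub.IsQuotient i q) : IsQuot i q := by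
  obtain ⟨h1, h2, h3, sq⟩ := hq
  have hmul : ∀ {T : Over S} (g : T ⟶ G) (h : T ⟶ H), lift g h ≫ (G ◁ i) ≫ μ[G] = g * (h ≫ i) := fun g h => by
    rw [lift_whiskerLeft_assoc, Hom.mul_def]
  refine ⟨h2, h1, h3, fun T t => ⟨fun ht => ?_, ?_⟩⟩
  · obtain ⟨w, hw1, hw2⟩ : ∃ w : T ⟶ G ⊗ H, w ≫ fst G H = 1 ∧ w ≫ (G ◁ i) ≫ μ[G] = t :=
      ⟨sq.lift 1 t (by rw [MonObj.one_comp, ht]), sq.lift_fst _ _ _, sq.lift_snd _ _ _⟩
    refine ⟨w ≫ snd G H, ?_⟩
    rw [← hw2, ← lift_comp_fst_snd w, hmul, hw1, _root_.one_mul, lift_snd]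
  · rintro ⟨h, rfl⟩
    have := congrArg (lift 1 h ≫ ·) sq.w
    simp only [← Category.assoc] at this
    rw [lift_fst, MonObj.one_comp, Category.assoc _ (G ◁ i), hmul, _root_.one_mul] at this
    exact this.symm

theorem IsQuot.bc {H G Q : Over S} [GrpObj Q] {i : H ⟶ G} {q : G ⟶ Q} (h : IsQuot i q)
    {U : Scheme.{u}} (g : U ⟶ S) : IsQuot ((Over.pullback g).map i) ((Over.pullback g).map q) := by
  obtain ⟨h1, h2, h3, h4⟩ := h
  refine ⟨MorphismProperty.overPullbackMap (P := @Flat) g q h1,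
    MorphismProperty.overPullbackMap (P := @Surjective) g q h2,
    MorphismProperty.overPullbackMap (P := @LocallyOfFinitePresentation) g q h3, fun T t => ?_⟩
  rw [← (toBase_injective g).eq_iff, toBase_map, NilAction.toBase_one, h4]
  constructor
  · rintro ⟨x, hx⟩
    exact ⟨NilAction.ofBase g x, by rw [NilAction.ofBase_comp, hx, NilAction.ofBase_toBase]⟩
  · rintro ⟨x, rfl⟩
    exact ⟨NilAction.toBase g x, (toBase_map g i x).symm⟩

theorem IsQuot.iso_comp {H G G' Q : Over S} [GrpObj Q] {i : H ⟶ G} {q : G ⟶ Q} (h : IsQuot i q)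
    (e : G' ≅ G) : IsQuot (i ≫ e.inv) (e.hom ≫ q) := by
  obtain ⟨h1, h2, h3, h4⟩ := h
  haveI := h1
  haveI := h2
  haveI := h3
  haveI : IsIso e.hom.left := (Over.forget _).map_isIso e.hom
  refine ⟨inferInstanceAs (Flat (e.hom.left ≫ q.left)), inferInstanceAs (Surjective (e.hom.left ≫ q.left)),
    inferInstanceAs (LocallyOfFinitePresentation (e.hom.left ≫ q.left)), fun T t => ?_⟩
  rw [← Category.assoc, h4]
  exact exists_congr fun x => by rw [← Category.assoc x, Iso.comp_inv_eq]

variable {N : Type} [AddCommGroup N]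

/-- A subgroup of multiplicative type of a split group is locally cut out by characters. -/
theorem exists_good_of_kernel [Monoid.FG (Multiplicative N)] {H Q : Over S} [GrpObj H] [GrpObj Q]
    (hH : SGA3x.IsMultTypeFT H) (i : H ⟶ Red.DS S N) [IsMonHom i] [Mono i] (q : Red.DS S N ⟶ Q)
    (hq : IsQuot i q) : ∀ s : S, ∃ U : S.Opens, s ∈ U ∧ ∃ A : AddSubgroup N, Good q U A := by
  obtain ⟨S', f, hf, hsurj, hqc, hloc⟩ := hH
  haveI := hf
  refine exists_good q f hsurj hqc fun z => ?_
  obtain ⟨V, hzV, M, _, -, ⟨e⟩⟩ := hloc z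
  let g : V.toScheme ⟶ S := V.ι ≫ f
  let ε : Red.DS V.toScheme M ⟶ Red.bc g H := e.inv.hom.hom
  have hε : IsMonHom ε := e.inv.hom.isMonHom_hom
  haveI : IsIso ε := ⟨e.hom.hom.hom, congr($(e.inv_hom_id).hom.hom), congr($(e.hom_inv_id).hom.hom)⟩
  haveI hmi : IsMonHom ((Over.pullback g).map i) :=
    ((Over.pullback g).mapGrp.map (Grp.homMk'' (A := Grp.mk H) (B := Grp.mk (Red.DS S N)) i
      (IsMonHom.one_hom i) (IsMonHom.mul_hom i))).hom.isMonHom_hom
  haveI : Mono ((Over.pullback g).map i) := inferInstance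
  let i' : Red.DS V.toScheme M ⟶ Red.DS V.toScheme N := ε ≫ (Over.pullback g).map i ≫ (bcDS g).hom
  haveI : IsMonHom i' := by haveI := hε; infer_instance
  haveI : Mono i' := inferInstance
  obtain ⟨U, hU, φ, hφ⟩ := exists_local_DSmap i' ⟨z, hzV⟩
  have hgood : Good i' U φ.range := fun T hT t => by rw [hφ T hT t, kills_range_iff]
  have hsur : Function.Surjective φ := AddMonoidHom.range_eq_top.1 (Good.eq_top i' hgood hU)
  refine ⟨V.ι ''ᵁ U, ⟨⟨z, hzV⟩, hU, rfl⟩, φ.ker, fun T a ha t => ?_⟩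
  have hr : Set.range a.left ⊆ Set.range V.ι := by
    rintro _ ⟨y, rfl⟩
    obtain ⟨w, -, hw⟩ := ha y
    exact ⟨w, hw⟩
  let T' : Over V.toScheme := Over.mk (IsOpenImmersion.lift V.ι a.left hr)
  have hT' : T'.hom ≫ g = T.hom := by
    show IsOpenImmersion.lift V.ι a.left hr ≫ V.ι ≫ f = _
    rw [← Category.assoc, IsOpenImmersion.lift_fac]
    exact Over.w a
  have hmem : ∀ y, T'.hom y ∈ U := fun y => by
    obtain ⟨w, hw, hwy⟩ := ha y
    have : T'.hom y = w := V.ι.isOpenEmbedding.injective (by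
      rw [← Scheme.Hom.comp_apply, show T'.hom ≫ V.ι = a.left from IsOpenImmersion.lift_fac _ _ _]
      exact hwy.symm)
    rw [this]
    exact hw
  let j : Over.mk (T'.hom ≫ g) ≅ T := Over.isoMk (Iso.refl _) ((Category.id_comp _).trans hT'.symm)
  let t' : T' ⟶ Red.DS V.toScheme N := NilAction.ofBase g (j.hom ≫ t) ≫ (bcDS g).hom
  have hchar : DSPts.char t' = DSPts.char t := by
    rw [char_bcDS, NilAction.toBase_ofBase]
    refine MonoidHom.ext fun m => ?_
    rw [DSPts.char_comp]
    exact congrArg (fun k => k (DSPts.char t m)) (Scheme.Hom.id_appTop (X := T.left))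
  have h1 : (∃ h : T ⟶ H, h ≫ i = t) ↔ ∃ x : T' ⟶ Red.DS V.toScheme M, x ≫ i' = t' := by
    constructor
    · rintro ⟨h, rfl⟩
      refine ⟨NilAction.ofBase g (j.hom ≫ h) ≫ inv ε, ?_⟩
      simp only [i', t', Category.assoc, IsIso.inv_hom_id_assoc]
      rw [← Category.assoc _ ((Over.pullback g).map i), NilAction.ofBase_comp]
      rfl
    · rintro ⟨x, hx⟩
      refine ⟨j.inv ≫ NilAction.toBase g (x ≫ ε), ?_⟩
      have h2 : (x ≫ ε) ≫ (Over.pullback g).map i = NilAction.ofBase g (j.hom ≫ t) := by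
        rw [← cancel_mono (bcDS g).hom]
        simp only [Category.assoc]
        exact hx
      rw [Category.assoc, ← toBase_map, h2, NilAction.toBase_ofBase, Iso.inv_hom_id_assoc]
  rw [hq.2.2.2 T t, h1]
  constructor
  · rintro ⟨x, hx⟩ n hn
    rw [← hchar, ← hx, hφ T' hmem x, char_DSmap]
    show DSPts.char x (Multiplicative.ofAdd (φ n)) = 1
    rw [AddMonoidHom.mem_ker.1 hn, ofAdd_zero, map_one]
  · intro h
    have hker : (AddMonoidHom.toMultiplicative φ).ker ≤ (DSPts.char t').ker.comap (MonoidHom.id _) := fun n hn => by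
      rw [Subgroup.mem_comap, MonoidHom.mem_ker, MonoidHom.id_apply, hchar]
      exact h n.toAdd hn
    let χ : Multiplicative M →* Γ(T'.left, ⊤) :=
      { toFun := fun m => DSPts.char t' (Multiplicative.ofAdd (hsur m.toAdd).choose)
        map_one' := by
          rw [hchar]
          exact h _ (hsur _).choose_spec
        map_mul' := fun m m' => by
          rw [← map_mul, ← ofAdd_add, hchar]
          obtain ⟨k, hk, e⟩ : ∃ k ∈ φ.ker, (hsur (m * m').toAdd).choose =
              k + ((hsur m.toAdd).choose + (hsur m'.toAdd).choose) :=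
            ⟨_, by
              rw [AddMonoidHom.mem_ker, map_sub, map_add, (hsur _).choose_spec, (hsur _).choose_spec,
                (hsur _).choose_spec, toAdd_mul, sub_self], (sub_add_cancel _ _).symm⟩
          rw [e, ofAdd_add, map_mul, h k hk, _root_.one_mul] }
    refine ⟨DSPts.pt χ, DSPts.char_injective (MonoidHom.ext fun n => ?_)⟩
    rw [hφ T' hmem _, char_DSmap, DSPts.char_pt]
    show DSPts.char t' (Multiplicative.ofAdd (hsur (φ n.toAdd)).choose) = DSPts.char t' n
    obtain ⟨k, hk, e⟩ : ∃ k ∈ φ.ker, (hsur (φ n.toAdd)).choose = k + n.toAdd :=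
      ⟨_, by rw [AddMonoidHom.mem_ker, map_sub, (hsur _).choose_spec, sub_self], (sub_add_cancel _ _).symm⟩
    rw [e, ofAdd_add, map_mul, hchar, h k hk, _root_.one_mul, ofAdd_toAdd]

/-- Restricting to an open subset. -/
theorem Good.restrict {G : Over S} [GrpObj G] {u : Red.DS S N ⟶ G} {U : S.Opens} {A : AddSubgroup N}
    (h : Good u U A) : Good ((bcDS (N := N) U.ι).inv ≫ (Over.pullback U.ι).map u) Set.univ A := by
  intro T _ t
  have hT : ∀ y, (T.hom ≫ U.ι) y ∈ (U : Set S) := fun y => (T.hom y).2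
  have h1 := h (Over.mk (T.hom ≫ U.ι)) hT (NilAction.toBase U.ι (t ≫ (bcDS U.ι).inv))
  rw [← (toBase_injective U.ι).eq_iff, ← Category.assoc, toBase_map, NilAction.toBase_one, h1]
  have e : DSPts.char (NilAction.toBase U.ι (t ≫ (bcDS U.ι).inv)) = DSPts.char t := by
    rw [← char_bcDS, Category.assoc, Iso.inv_hom_id, Category.comp_id]
  exact ⟨fun h n hn => by rw [← e]; exact h n hn, fun h n hn => by rw [e]; exact h n hn⟩

/-- A quotient of a split group is the split group on the characters killing the kernel. -/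
theorem exists_iso_quot {Q : Over S} [GrpObj Q] (q : Red.DS S N ⟶ Q) [IsMonHom q] (hfl : Flat q.left)
    (hsurj : Surjective q.left) (hfp : LocallyOfFinitePresentation q.left) {A : AddSubgroup N}
    (h : Good q Set.univ A) : ∃ v : Red.DS S A ⟶ Q, IsMonHom v ∧ IsIso v := by
  obtain ⟨v, hv, hvm, hvq⟩ := exists_factor q h
  haveI := hfl
  haveI := hsurj
  haveI := hfp
  haveI := hv
  haveI := hvm
  haveI : EffectiveEpi q.left := Descent.effectiveEpi_of_cover q.left fun V hV => by
    obtain ⟨W, h1, h2⟩ := q.left.isOpenMap.exists_opens_image_eq_of_prespectralSpace q.left.continuous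
      (U := (V : Set Q.left)) (by rw [q.left.surjective.range_eq]; exact Set.subset_univ _) V.2 hV.isCompact
    exact ⟨W, h1, h2⟩
  let π := incl S A
  haveI hπm : IsMonHom π := isMonHom_incl A
  let w₀ := EffectiveEpi.desc q.left π.left fun {Z} g₁ g₂ e => by
    let T : Over S := Over.mk (g₁ ≫ (Red.DS S N).hom)
    let a : T ⟶ Red.DS S N := Over.homMk g₁ rfl
    let b : T ⟶ Red.DS S N := Over.homMk g₂ (by
      show g₂ ≫ (Red.DS S N).hom = g₁ ≫ (Red.DS S N).hom
      rw [← Over.w q, reassoc_of% e])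
    have hab : a ≫ q = b ≫ q := Over.OverMorphism.ext e
    have h1 : (a / b) ≫ π = 1 := (kills_incl_iff A _).2 ((h T (fun _ => Set.mem_univ _) _).1 (by
      rw [GrpObj.div_comp a b q, hab, div_self']))
    rw [GrpObj.div_comp a b π, div_eq_one] at h1
    exact congrArg (fun m => m.left) h1
  have hw₀ : q.left ≫ w₀ = π.left := EffectiveEpi.fac q.left π.left _
  let w : Q ⟶ Red.DS S A := Over.homMk w₀ (by
    rw [← cancel_epi q.left, reassoc_of% hw₀, Over.w π, Over.w q])
  haveI : Epi q := by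
    haveI : Epi q.left := inferInstance
    exact Over.epi_of_epi_left _
  have hwv : w ≫ v = 𝟙 Q := by
    rw [← cancel_epi q, ← Category.assoc, show q ≫ w = π from Over.OverMorphism.ext hw₀, hvq, Category.comp_id]
  exact ⟨v, hv, ⟨w, by rw [← cancel_mono v, Category.assoc, hwv, Category.comp_id, Category.id_comp], hwv⟩⟩

end Groth.L25.SplitSub
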