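import Groth.Agent.L25.SplitSub.KernelLocal
import Groth.Agent.L25.MultSub.Main
import Groth.Agent.L25.MonoClosed.Main
import Groth.Agent.L25.Translate
import Groth.Agent.L25.Locus.Smooth
import Mathlib.AlgebraicGeometry.Morphisms.SchemeTheoreticallyDominant

/-!
# Scheme-theoretic images of homomorphisms that are locally split

A homomorphism which, fpqc locally, factors as a faithfully flat homomorphism onto a group of multiplicative
type followed by a closed immersion does so globally, through its scheme-theoretic image.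
-/

set_option autoImplicit false
universe u

open CategoryTheory CategoryTheory.Limits MonoidalCategory CartesianMonoidalCategory AlgebraicGeometry
open TopologicalSpace
open scoped MonObj

set_option backward.isDefEq.respectTransparency.types false
set_option linter.style.haveILetI false

noncomputable section

namespace Groth.L25.SchImage

theorem ker_eq_bot_of_flat_surjective {X Y : Scheme.{u}} (f : X ⟶ Y) [Flat f] (hs : Surjective f) :
    f.ker = ⊥ := by
  rw [eq_bot_iff]
  intro V
  refine (Scheme.IdealSheafData.ideal_ofIdeals_le _ V).trans fun s hs0 => ?_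
  rw [Scheme.IdealSheafData.ideal_bot, Pi.bot_apply, Ideal.mem_bot]
  refine TopCat.Presheaf.section_ext Y.sheaf V.1 _ _ fun y hy => ?_
  obtain ⟨x, rfl⟩ := hs.surj y
  refine SplitSub.stalkMap_injective' f x ?_
  change f.stalkMap x (Y.presheaf.germ V.1 _ hy s) = f.stalkMap x (Y.presheaf.germ V.1 _ hy 0)
  rw [Scheme.Hom.germ_stalkMap_apply, Scheme.Hom.germ_stalkMap_apply, show f.app V.1 s = 0 from hs0, map_zero]
  simp

/-- two factorisations by a dominant morphism and a closed immersion are isomorphic -/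
theorem exists_iso_of_two_factor {X Q Q' G : Scheme.{u}} (q : X ⟶ Q) (j : Q ⟶ G) (q' : X ⟶ Q') (j' : Q' ⟶ G)
    [IsClosedImmersion j] [IsClosedImmersion j'] (hq : q.ker = ⊥) (hq' : q'.ker = ⊥) (h : q ≫ j = q' ≫ j') :
    ∃ e : Q ≅ Q', e.hom ≫ j' = j ∧ q ≫ e.hom = q' := by
  have hk : j.ker = j'.ker := by
    have h1 := congrArg Scheme.Hom.ker h
    rwa [Scheme.Hom.ker_comp, Scheme.Hom.ker_comp, hq, hq', Scheme.IdealSheafData.map_bot,
      Scheme.IdealSheafData.map_bot] at h1
  let a := IsClosedImmersion.lift j' j hk.ge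
  let b := IsClosedImmersion.lift j j' hk.le
  have ha : a ≫ j' = j := IsClosedImmersion.lift_fac _ _ _
  have hb : b ≫ j = j' := IsClosedImmersion.lift_fac _ _ _
  refine ⟨⟨a, b, ?_, ?_⟩, ha, ?_⟩
  · rw [← cancel_mono j, Category.assoc, hb, ha, Category.id_comp]
  · rw [← cancel_mono j', Category.assoc, ha, hb, Category.id_comp]
  · rw [← cancel_mono j', Category.assoc, ha, h]

variable {S : Scheme.{u}}

/-- being in a closed subobject may be tested on a flat covering family -/
theorem exists_lift_of_cover {W T G : Over S} (i : W ⟶ G) [IsClosedImmersion i.left] {x : T ⟶ G} {I : Type u}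
    {Y : I → Over S} (c : ∀ k, Y k ⟶ T) [∀ k, Flat (c k).left]
    (hc : ∀ z : T.left, ∃ k, z ∈ Set.range (c k).left) (h : ∀ k, ∃ w, w ≫ i = c k ≫ x) : ∃ w, w ≫ i = x := by
  let σ : ∐ (fun k => (Y k).left) ⟶ T.left := Sigma.desc fun k => (c k).left
  have : Flat σ := IsZariskiLocalAtSource.sigmaDesc fun k => inferInstance
  have hσ : Surjective σ := ⟨fun z => by
    obtain ⟨k, y, rfl⟩ := hc z
    refine ⟨Sigma.ι (fun k => (Y k).left) k y, ?_⟩
    rw [← Scheme.Hom.comp_apply, Sigma.ι_desc]⟩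
  choose w hw using h
  have hle : i.left.ker ≤ x.left.ker := by
    have h1 : σ ≫ x.left = Sigma.desc (fun k => (w k).left) ≫ i.left := Sigma.hom_ext _ _ fun k => by
      rw [Sigma.ι_desc_assoc, Sigma.ι_desc_assoc, ← Over.comp_left, ← Over.comp_left, hw]
    have h2 := congrArg Scheme.Hom.ker h1
    rw [Scheme.Hom.ker_comp, ker_eq_bot_of_flat_surjective σ hσ, Scheme.IdealSheafData.map_bot] at h2
    rw [h2]
    exact Scheme.Hom.le_ker_comp _ _
  refine ⟨Over.homMk (IsClosedImmersion.lift i.left x.left hle) ?_,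
    Over.OverMorphism.ext (IsClosedImmersion.lift_fac _ _ _)⟩
  rw [← Over.w i, IsClosedImmersion.lift_fac_assoc, Over.w x]

theorem isPullback_fst_map {T : Scheme.{u}} (g : T ⟶ S) {X Y : Over S} (a : X ⟶ Y) :
    IsPullback (pullback.fst X.hom g) ((Over.pullback g).map a).left a.left (pullback.fst Y.hom g) :=
  HomLocus.isPullback_map a g

/-- The image of a homomorphism which is, locally for the fpqc topology, a faithfully flat homomorphism onto a
group of multiplicative type followed by a closed immersion. -/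
theorem exists_image {H G : Over S} [GrpObj H] [GrpObj G] (u : H ⟶ G) [IsMonHom u]
    [QuasiCompact u.left] {S' : Scheme.{u}} (f : S' ⟶ S) [Flat f] (hf : Surjective f)
    (hqc : ∀ V : S.Opens, IsAffineOpen V → ∃ W : S'.Opens, IsCompact (W : Set S') ∧ f.base '' (W : Set S') = (V : Set S))
    (hloc : ∀ z : S', ∃ U : S'.Opens, z ∈ U ∧ ∃ (D : Over U.toScheme) (_ : GrpObj D),
      SGA3x.IsMultTypeFT D ∧ ∃ (π : Red.bc (U.ι ≫ f) H ⟶ D) (v : D ⟶ Red.bc (U.ι ≫ f) G), IsMonHom π ∧ IsMonHom v ∧
        Flat π.left ∧ Surjective π.left ∧ IsClosedImmersion v.left ∧ π ≫ v = (Over.pullback (U.ι ≫ f)).map u) :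
    ∃ (Q : Over S) (_ : GrpObj Q) (j : Q ⟶ G) (_ : IsMonHom j) (q : H ⟶ Q) (_ : IsMonHom q),
      IsClosedImmersion j.left ∧ SGA3x.IsMultTypeFT Q ∧ Flat q.left ∧ Surjective q.left ∧ q ≫ j = u ∧
      ∀ z : S', ∀ (U : S'.Opens) (D : Over U.toScheme) (π : Red.bc (U.ι ≫ f) H ⟶ D) (v : D ⟶ Red.bc (U.ι ≫ f) G),
        z ∈ U → Flat π.left → Surjective π.left → IsClosedImmersion v.left →
        π ≫ v = (Over.pullback (U.ι ≫ f)).map u →
        ∃ ε : Red.bc (U.ι ≫ f) Q ≅ D, ε.hom ≫ v = (Over.pullback (U.ι ≫ f)).map j ∧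
          (Over.pullback (U.ι ≫ f)).map q ≫ ε.hom = π := by
  let Q : Over S := Over.mk (u.left.imageι ≫ G.hom)
  let j : Q ⟶ G := Over.homMk u.left.imageι rfl
  let q : H ⟶ Q := Over.homMk u.left.toImage (by
    show u.left.toImage ≫ u.left.imageι ≫ G.hom = H.hom
    rw [Scheme.Hom.toImage_imageι_assoc, Over.w u])
  have hqj : q ≫ j = u := Over.OverMorphism.ext (Scheme.Hom.toImage_imageι _)
  have hjc : IsClosedImmersion j.left := inferInstanceAs (IsClosedImmersion u.left.imageι)
  haveI : Mono j := Over.mono_of_mono_left j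
  have hqker : u.left.toImage.ker = ⊥ := by
    refine Scheme.IdealSheafData.ext_of_iSup_eq_top
      (fun U : G.left.affineOpens =>
        (⟨u.left.imageι ⁻¹ᵁ U.1, U.2.preimage u.left.imageι⟩ : u.left.image.affineOpens)) ?_ fun U => ?_
    · rw [← Scheme.Hom.preimage_iSup, iSup_affineOpens_eq_top, Scheme.Hom.preimage_top]
    · rw [Scheme.Hom.ker_apply, Scheme.IdealSheafData.ideal_bot, Pi.bot_apply, ← RingHom.injective_iff_ker_eq_bot]
      exact u.left.toImage_app_injective U
  haveI : IsSchemeTheoreticallyDominant q.left := ⟨hqker⟩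
  haveI : QuasiCompact q.left := inferInstanceAs (QuasiCompact u.left.toImage)
  have hiso : ∀ (U : S'.Opens) (D : Over U.toScheme) (π : Red.bc (U.ι ≫ f) H ⟶ D) (v : D ⟶ Red.bc (U.ι ≫ f) G),
      Flat π.left → Surjective π.left → IsClosedImmersion v.left →
      π ≫ v = (Over.pullback (U.ι ≫ f)).map u →
      ∃ ε : Red.bc (U.ι ≫ f) Q ≅ D, ε.hom ≫ v = (Over.pullback (U.ι ≫ f)).map j ∧
        (Over.pullback (U.ι ≫ f)).map q ≫ ε.hom = π := by
    intro U D π v hπf hπs hv hπv
    let g := U.ι ≫ f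
    haveI : Flat g := inferInstance
    haveI : Flat (pullback.fst Q.hom g) := MorphismProperty.pullback_fst _ _ ‹Flat g›
    have hd : IsSchemeTheoreticallyDominant ((Over.pullback g).map q).left :=
      IsSchemeTheoreticallyDominant.of_isPullback (isPullback_fst_map g q)
    haveI : IsClosedImmersion ((Over.pullback g).map j).left :=
      MorphismProperty.of_isPullback (isPullback_fst_map g j) hjc
    obtain ⟨e, he1, he2⟩ := exists_iso_of_two_factor ((Over.pullback g).map q).left ((Over.pullback g).map j).left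
      π.left v.left hd.ker_eq_bot (ker_eq_bot_of_flat_surjective π.left hπs) (by
        rw [← Over.comp_left, ← Over.comp_left, ← Functor.map_comp, hqj, hπv])
    let ε : Red.bc g Q ≅ D := Over.isoMk e (by
      rw [← Over.w v, ← Category.assoc, he1]
      exact Over.w ((Over.pullback g).map j))
    exact ⟨ε, Over.OverMorphism.ext he1, Over.OverMorphism.ext he2⟩
  choose U hzU D instD hD π v hπm hvm hπf hπs hvc hπv using hloc
  choose ε hεj hεq using fun z => hiso (U z) (D z) (π z) (v z) (hπf z) (hπs z) (hvc z) (hπv z)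
  -- the pieces of a test object
  let P : ∀ T : Over S, S' → Over S := fun T z => Over.mk ((Over.mk (pullback.snd T.hom ((U z).ι ≫ f))).hom ≫ (U z).ι ≫ f)
  let c : ∀ (T : Over S) (z : S'), P T z ⟶ T := fun T z => Over.homMk (pullback.fst T.hom ((U z).ι ≫ f)) (by
    show pullback.fst T.hom ((U z).ι ≫ f) ≫ T.hom = pullback.snd T.hom ((U z).ι ≫ f) ≫ (U z).ι ≫ f
    exact pullback.condition)
  haveI : ∀ T z, Flat (c T z).left := fun T z =>
    MorphismProperty.pullback_fst _ _ (inferInstance : Flat ((U z).ι ≫ f))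
  have hc : ∀ (T : Over S) (x : T.left), ∃ z, x ∈ Set.range (c T z).left := fun T x => by
    obtain ⟨z, hz⟩ := hf.surj (T.hom x)
    obtain ⟨y, hy1, -⟩ := Scheme.Pullback.exists_preimage_pullback (f := T.hom) (g := (U z).ι ≫ f) x ⟨z, hzU z⟩ (by
      rw [Scheme.Hom.comp_apply]
      exact hz.symm)
    exact ⟨z, y, hy1⟩
  let F : ∀ T : Over S, (T ⟶ G) → Prop := fun T x => ∃ w, w ≫ j = x
  have hloc' : ∀ (T : Over S) (x : T ⟶ G),
      (∀ z, ∃ d, d ≫ v z = NilAction.ofBase ((U z).ι ≫ f) (c T z ≫ x)) ↔ F T x := by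
    intro T x
    constructor
    · intro h
      refine exists_lift_of_cover j (c T) (hc T) fun z => ?_
      obtain ⟨d, hd⟩ := h z
      refine ⟨NilAction.toBase ((U z).ι ≫ f) (d ≫ (ε z).inv), ?_⟩
      have h1 : (d ≫ (ε z).inv) ≫ (Over.pullback ((U z).ι ≫ f)).map j =
          NilAction.ofBase ((U z).ι ≫ f) (c T z ≫ x) := by
        rw [← hεj z, Category.assoc, Iso.inv_hom_id_assoc, hd]
      rw [← NilAction.ofBase_toBase ((U z).ι ≫ f) (d ≫ (ε z).inv), NilAction.ofBase_comp] at h1
      have h2 := congrArg (NilAction.toBase ((U z).ι ≫ f)) h1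
      rwa [NilAction.toBase_ofBase, NilAction.toBase_ofBase] at h2
    · rintro ⟨w, rfl⟩ z
      refine ⟨NilAction.ofBase ((U z).ι ≫ f) (c T z ≫ w) ≫ (ε z).hom, ?_⟩
      rw [Category.assoc, hεj z, NilAction.ofBase_comp, Category.assoc]
  have hmul : ∀ (T : Over S) (z : S') (x y : P T z ⟶ G),
      NilAction.ofBase ((U z).ι ≫ f) (x * y) =
        NilAction.ofBase ((U z).ι ≫ f) x * NilAction.ofBase ((U z).ι ≫ f) y := by
    intro T z x y
    conv_lhs => rw [← NilAction.toBase_ofBase ((U z).ι ≫ f) x, ← NilAction.toBase_ofBase ((U z).ι ≫ f) y,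
      ← NilAction.toBase_mul, NilAction.ofBase_toBase]
  have hone : ∀ (T : Over S) (z : S'),
      NilAction.ofBase ((U z).ι ≫ f) (1 : P T z ⟶ G) = 1 := fun T z => by
    rw [← NilAction.toBase_one ((U z).ι ≫ f), NilAction.ofBase_toBase]
  obtain ⟨hgrp, hjm⟩ := Locus.exists_subgroup j F (fun T x => Iff.rfl)
    ((hloc' _ _).1 fun z => ⟨1, by
      haveI := hvm z
      rw [MonObj.one_comp, MonObj.comp_one, hone]⟩)
    (fun T x y hx hy => (hloc' T _).1 fun z => by
      haveI := hvm z
      obtain ⟨a, ha⟩ := (hloc' T x).2 hx z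
      obtain ⟨b, hb⟩ := (hloc' T y).2 hy z
      exact ⟨a * b, by rw [MonObj.mul_comp, ha, hb, MonObj.comp_mul, hmul]⟩)
    (fun T x hx => (hloc' T _).1 fun z => by
      haveI := hvm z
      obtain ⟨a, ha⟩ := (hloc' T x).2 hx z
      refine ⟨a⁻¹, ?_⟩
      rw [GrpObj.inv_comp, ha, GrpObj.comp_inv]
      refine inv_eq_of_mul_eq_one_right ?_
      rw [← hmul, mul_inv_cancel, hone])
  letI := hgrp
  haveI := hjm
  have hqm : IsMonHom q := Bridge.isMonHom_of_mul q fun Y a b => by
    rw [← cancel_mono j, Category.assoc, hqj, MonObj.mul_comp (a ≫ q) (b ≫ q) j, Category.assoc, Category.assoc,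
      hqj, MonObj.mul_comp]
  refine ⟨Q, hgrp, j, hjm, q, hqm, hjc, ?_, ?_, ?_, hqj,
    fun z U' D' π' v' _ h1 h2 h3 h4 => hiso U' D' π' v' h1 h2 h3 h4⟩
  · haveI : IsMonHom (Iso.refl (Red.bc f Q)).hom := inferInstanceAs (IsMonHom (𝟙 (Red.bc f Q)))
    refine Descent.isMultTypeFT_descend (π := f) (H' := Red.bc f Q) hqc (Iso.refl _)
      (MultSub.isMultTypeFT_of_local fun z => ⟨U z, hzU z, ?_⟩)
    haveI := hvm z
    haveI : Mono (v z) := by
      haveI := hvc z
      exact Over.mono_of_mono_left _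
    have hjm' : IsMonHom ((Over.pullback ((U z).ι ≫ f)).map j) := MonoClosed.isMonHom_pullbackMap _ _
    haveI : IsMonHom (ε z).hom := Bridge.isMonHom_of_mul (ε z).hom fun Y a b => by
      rw [← cancel_mono (v z), Category.assoc, hεj, MonObj.mul_comp (a ≫ (ε z).hom) (b ≫ (ε z).hom) (v z),
        Category.assoc, Category.assoc, hεj, @MonObj.mul_comp _ _ _ _ _ _ _ _ a b _ hjm']
    exact Bridge.isMultTypeFT_of_iso
      ((Grp.mkIso' (ε z)).symm ≪≫ (Grp.mkIso' (ActBC.bcCompIso (U z).ι f Q rfl)).symm) (hD z)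
  · -- flatness descends along the flat cover of the source
    let σ : ∐ (fun z => (Red.bc ((U z).ι ≫ f) H).left) ⟶ H.left := Sigma.desc fun z => pullback.fst H.hom ((U z).ι ≫ f)
    haveI : Flat σ := IsZariskiLocalAtSource.sigmaDesc fun z =>
      MorphismProperty.pullback_fst _ _ (inferInstance : Flat ((U z).ι ≫ f))
    haveI : Surjective σ := ⟨fun x => by
      obtain ⟨z, y, hy⟩ := hc H x
      refine ⟨Sigma.ι (fun z => (Red.bc ((U z).ι ≫ f) H).left) z y, ?_⟩
      rw [← Scheme.Hom.comp_apply, Sigma.ι_desc]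
      exact hy⟩
    haveI : Flat (σ ≫ q.left) := by
      have e : σ ≫ q.left = Sigma.desc fun z => (π z).left ≫ (ε z).inv.left ≫ pullback.fst Q.hom ((U z).ι ≫ f) :=
        Sigma.hom_ext _ _ fun z => by
          rw [Sigma.ι_desc_assoc, Sigma.ι_desc, (isPullback_fst_map _ q).w, ← Category.assoc (π z).left,
            ← Over.comp_left, ← hεq z, Category.assoc, Iso.hom_inv_id, Category.comp_id]
      rw [e]
      exact IsZariskiLocalAtSource.sigmaDesc fun z => by
        haveI := hπf z
        haveI : IsIso (ε z).inv.left := inferInstanceAs (IsIso ((Over.forget _).map (ε z).inv))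
        haveI : Flat (pullback.fst Q.hom ((U z).ι ≫ f)) :=
          MorphismProperty.pullback_fst _ _ (inferInstance : Flat ((U z).ι ≫ f))
        infer_instance
    exact Translate.flat_of_comp σ q.left
  · refine ⟨fun x => ?_⟩
    obtain ⟨z, y, hy⟩ := hc Q x
    let y' := (ε z).hom.left y
    obtain ⟨w, hw⟩ := (hπs z).surj y'
    refine ⟨pullback.fst H.hom ((U z).ι ≫ f) w, ?_⟩
    have e : ((Over.pullback ((U z).ι ≫ f)).map q).left w = y := by
      have hi : IsIso (ε z).hom.left := inferInstanceAs (IsIso ((Over.forget _).map (ε z).hom))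
      apply (ε z).hom.left.isOpenEmbedding.injective
      rw [← Scheme.Hom.comp_apply, ← Over.comp_left, hεq z]
      exact hw
    rw [← Scheme.Hom.comp_apply, (isPullback_fst_map _ q).w, Scheme.Hom.comp_apply, e]
    exact hy

end Groth.L25.SchImage
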