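import Groth.Agent.L25.Extend.Main

/-!
# Homomorphisms into groups of multiplicative type extend from open subsets of a normal base
-/

set_option autoImplicit false
universe u

open CategoryTheory CategoryTheory.Limits MonoidalCategory CartesianMonoidalCategory AlgebraicGeometry
open TopologicalSpace
open scoped MonObj

set_option linter.style.haveILetI false
set_option backward.isDefEq.respectTransparency.types false

noncomputable section

namespace Groth.L25.SplitSub

variable {S : Scheme.{u}}

/-- A connected normal locally Noetherian scheme is integral. -/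
theorem isIntegral_of_normal [ConnectedSpace S] [IsLocallyNoetherian S] (hS : Pi1.IsNormalScheme S) :
    IsIntegral S := by
  haveI := Extend.isReduced_of_normal hS
  have hV : ∀ x : S, ∃ V : S.Opens, x ∈ V ∧ IsIntegral V.toScheme := fun x => by
    haveI := (hS x).1
    obtain ⟨V, hx, -, hV⟩ := Groth.L07.RatSection.exists_integral_nhd x
    exact ⟨V, hx, hV⟩
  choose V hx hV using hV
  let g : S → S := fun x =>
    haveI := hV x
    (V x).ι (genericPoint (V x).toScheme)
  have hg : ∀ x, ∀ y ∈ V x, g x ⤳ y := fun x y hy => by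
    haveI := hV x
    exact ((genericPoint_spec (V x).toScheme).specializes (Set.mem_univ ⟨y, hy⟩)).map (V x).ι.continuous
  have hmem : ∀ x, g x ∈ V x := fun x => by
    haveI := hV x
    exact (genericPoint (V x).toScheme).2
  have hlc : IsLocallyConstant g := (IsLocallyConstant.iff_exists_open g).2 fun x => ⟨V x, (V x).2, hx x, fun y hy => by
    have h1 : g x ∈ V y := (hg x y hy).mem_open (V y).2 (hx y)
    have h2 : g y ∈ V x := (hg y y (hx y)).mem_open (V x).2 hy
    exact ((hg y (g x) h1).antisymm (hg x (g y) h2)).eq⟩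
  obtain ⟨ξ, hξ⟩ := hlc.exists_eq_const
  have hall : ∀ y, ξ ⤳ y := fun y => by
    have h := hg y y (hx y)
    rwa [show g y = ξ from congrFun hξ y] at h
  haveI : Nonempty S := inferInstance
  haveI : PreirreducibleSpace S := ⟨fun U W hU hW ⟨a, _, ha⟩ ⟨b, _, hb⟩ =>
    ⟨ξ, trivial, (hall a).mem_open hU ha, (hall b).mem_open hW hb⟩⟩
  haveI : IrreducibleSpace S := ⟨inferInstance⟩
  exact isIntegral_of_irreducibleSpace_of_isReduced S

variable [IsIntegral S] [IsLocallyNoetherian S] {H T : Over S} [GrpObj H] [GrpObj T] [Smooth H.hom]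

/-- A homomorphism over a non-empty open subset extends. -/
theorem exists_extend_open (hconn : ∀ s : S, ConnectedSpace ↥(Limits.pullback H.hom (S.fromSpecResidueField s)))
    (hS : Pi1.IsNormalScheme S) (hT : SGA3x.IsMultTypeFT T) (U : S.Opens) (hU : (U : Set S).Nonempty)
    (c : Red.bc U.ι H ⟶ Red.bc U.ι T) [IsMonHom c] :
    ∃ u : H ⟶ T, IsMonHom u ∧ (Over.pullback U.ι).map u = c := by
  have hη : genericPoint S ∈ U := by
    obtain ⟨x, hx⟩ := hU
    exact ((genericPoint_spec S).specializes (Set.mem_univ x)).mem_open U.2 hx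
  let q := S.fromSpecResidueField (genericPoint S)
  let q' : Spec (S.residueField (genericPoint S)) ⟶ U.toScheme := IsOpenImmersion.lift U.ι q (by
    rw [Scheme.range_fromSpecResidueField, Scheme.Opens.range_ι]
    exact Set.singleton_subset_iff.2 hη)
  have hq : q' ≫ U.ι = q := IsOpenImmersion.lift_fac _ _ _
  let B := ActBC.bcCompIso q' U.ι H hq
  let C := ActBC.bcCompIso q' U.ι T hq
  let uη := B.inv ≫ (Over.pullback q').map c ≫ C.hom
  haveI : IsMonHom ((Over.pullback q').map c) :=
    ((Over.pullback q').mapGrp.map (Grp.homMk'' (A := Grp.mk (Red.bc U.ι H)) (B := Grp.mk (Red.bc U.ι T)) c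
      (IsMonHom.one_hom c) (IsMonHom.mul_hom c))).hom.isMonHom_hom
  obtain ⟨u, hu, hgen⟩ := Extend.exists_extension H T hconn hS hT uη
  refine ⟨u, hu, ?_⟩
  haveI : IsAffineHom T.hom := Central.isAffineHom_of_multTypeFT hT
  haveI : IsReduced H.left := Extend.isReduced_of_normal (Extend.isNormalScheme_of_smooth H.hom hS)
  haveI : IsReduced (pullback H.hom U.ι) := isReduced_of_isOpenImmersion (pullback.fst H.hom U.ι)
  refine Over.OverMorphism.ext (pullback.hom_ext ?_ ((Over.w _).trans (Over.w c).symm))
  let d : (Red.bc q H).left ⟶ pullback H.hom U.ι :=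
    B.inv.left ≫ pullback.fst (Red.bc U.ι H).hom q'
  have hd : d ≫ pullback.fst H.hom U.ι = pullback.fst H.hom q := by
    simp only [d, Category.assoc]
    exact Extend.bcCompIso_inv_left_fst q' U.ι H hq
  haveI : IsDominant d := by
    haveI : IsDominant (pullback.fst H.hom q) := Extend.isDominant_generic H.hom
    refine ⟨(((pullback.fst H.hom q).denseRange).preimage (pullback.fst H.hom U.ι).isOpenEmbedding.isOpenMap).mono ?_⟩
    rintro z ⟨w, hw⟩
    refine ⟨w, (pullback.fst H.hom U.ι).isOpenEmbedding.injective ?_⟩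
    rw [← Scheme.Hom.comp_apply, hd]
    exact hw
  haveI : IsReduced (Red.bc U.ι H).left := ‹IsReduced (pullback H.hom U.ι)›
  refine ext_of_isDominant_of_isSeparated T.hom ?_ d ?_
  · rw [Category.assoc, Category.assoc, pullback.condition, ← Category.assoc, ← Category.assoc]
    exact congrArg (· ≫ U.ι) ((Over.w ((Over.pullback U.ι).map u)).trans (Over.w c).symm)
  · have h1 := congrArg (fun m => m.left ≫ pullback.fst T.hom q) hgen
    simp only [uη, Over.comp_left, Category.assoc] at h1
    rw [ActBC.pullback_map_left_fst q u, ActBC.bcCompIso_hom_left_fst q' U.ι T hq,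
      ActBC.pullback_map_left_fst_assoc q' c] at h1
    rw [ActBC.pullback_map_left_fst U.ι u, reassoc_of% hd, h1]
    simp only [d, Category.assoc]

end Groth.L25.SplitSub
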