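import Groth.Agent.L25.SplitSub.Map
import Mathlib.AlgebraicGeometry.Morphisms.UniversallyOpen
import Mathlib.Topology.LocallyConstant.Basic

/-!
# The characters killing the kernel of a morphism out of a split group
-/

set_option autoImplicit false
universe u

open CategoryTheory CategoryTheory.Limits MonoidalCategory CartesianMonoidalCategory AlgebraicGeometry
open TopologicalSpace
open scoped MonObj

set_option backward.isDefEq.respectTransparency.types false
set_option linter.style.haveILetI false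

noncomputable section

namespace Groth.L25.SplitSub

variable {S : Scheme.{u}} {N : Type} [AddCommGroup N]

theorem stalkMap_injective' {X Y : Scheme.{u}} (f : X ⟶ Y) [Flat f] (x : X) :
    Function.Injective (f.stalkMap x) := by
  letI := (f.stalkMap x).hom.toAlgebra
  haveI : Module.Flat (Y.presheaf.stalk (f x)) (X.presheaf.stalk x) := Flat.stalkMap f x
  haveI : IsLocalHom (algebraMap (Y.presheaf.stalk (f x)) (X.presheaf.stalk x)) :=
    inferInstanceAs (IsLocalHom (f.stalkMap x).hom)
  haveI := Module.FaithfullyFlat.of_flat_of_isLocalHom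
    (A := Y.presheaf.stalk (f x)) (B := X.presheaf.stalk x)
  exact FaithfulSMul.algebraMap_injective (Y.presheaf.stalk (f x)) (X.presheaf.stalk x)

/-- The characters of a point in `A` are trivial. -/
def Kills (A : AddSubgroup N) {T : Over S} (t : T ⟶ Red.DS S N) : Prop :=
  ∀ n ∈ A, DSPts.char t (Multiplicative.ofAdd n) = 1

theorem Kills.comp {A : AddSubgroup N} {T T' : Over S} {t : T ⟶ Red.DS S N} (h : Kills A t) (g : T' ⟶ T) :
    Kills A (g ≫ t) := fun n hn => by
  rw [DSPts.char_comp, h n hn, map_one]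

theorem Kills.of_cover {A : AddSubgroup N} {T : Over S} {I : Type u} {Y : I → Over S} (c : ∀ i, Y i ⟶ T)
    [∀ i, Flat (c i).left] (hc : ∀ x : T.left, ∃ i, x ∈ Set.range (c i).left) {t : T ⟶ Red.DS S N}
    (h : ∀ i, Kills A (c i ≫ t)) : Kills A t := by
  intro n hn
  refine TopCat.Presheaf.section_ext T.left.sheaf ⊤ _ _ fun x hx => ?_
  obtain ⟨i, y, rfl⟩ := hc x
  refine stalkMap_injective' (c i).left y ?_
  have e := h i n hn
  rw [DSPts.char_comp] at e
  change (c i).left.stalkMap y (T.left.presheaf.germ ⊤ _ hx _) = (c i).left.stalkMap y (T.left.presheaf.germ ⊤ _ hx 1)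
  rw [Scheme.Hom.germ_stalkMap_apply, Scheme.Hom.germ_stalkMap_apply]
  exact congrArg _ (e.trans (map_one _).symm)

/-- Morphisms agree when they do on a flat covering family. -/
theorem eq_of_cover {T G : Over S} {I : Type u} {Y : I → Over S} (c : ∀ i, Y i ⟶ T)
    [∀ i, Flat (c i).left] (hc : ∀ x : T.left, ∃ i, x ∈ Set.range (c i).left) {a b : T ⟶ G}
    (h : ∀ i, c i ≫ a = c i ≫ b) : a = b := by
  let σ : ∐ (fun i => (Y i).left) ⟶ T.left := Sigma.desc fun i => (c i).left
  have : Flat σ := IsZariskiLocalAtSource.sigmaDesc fun i => inferInstance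
  have : Surjective σ := ⟨fun x => by
    obtain ⟨i, y, rfl⟩ := hc x
    refine ⟨Sigma.ι (fun i => (Y i).left) i y, ?_⟩
    rw [← Scheme.Hom.comp_apply, Sigma.ι_desc]⟩
  have : Epi σ := Flat.epi_of_flat_of_surjective _
  refine Over.OverMorphism.ext ((cancel_epi σ).1 (Sigma.hom_ext _ _ fun i => ?_))
  rw [Sigma.ι_desc_assoc, Sigma.ι_desc_assoc]
  exact congrArg (fun m => m.left) (h i)

variable {G : Over S} [GrpObj G] (u : Red.DS S N ⟶ G)

/-- The characters killing the kernel over `j`. -/
def killSub {X : Scheme.{u}} (j : X ⟶ S) : AddSubgroup N where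
  carrier := {n | ∀ (Y : Over S) (_ : Y ⟶ Over.mk j) (t : Y ⟶ Red.DS S N), t ≫ u = 1 →
    DSPts.char t (Multiplicative.ofAdd n) = 1}
  zero_mem' := fun Y _ t _ => map_one _
  add_mem' := fun ha hb Y p t ht => by rw [ofAdd_add, map_mul, ha Y p t ht, hb Y p t ht, one_mul]
  neg_mem' := fun {n} ha Y p t ht => by
    have h := map_mul (DSPts.char t) (Multiplicative.ofAdd (-n)) (Multiplicative.ofAdd n)
    rw [← ofAdd_add, neg_add_cancel, ofAdd_zero, map_one, ha Y p t ht, mul_one] at h
    exact h.symm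

theorem killSub_comp {X X' : Scheme.{u}} (j : X ⟶ S) (c : X' ⟶ X) [Flat c] [Surjective c] :
    killSub u (c ≫ j) = killSub u j := by
  refine le_antisymm (fun n hn Y p t ht => ?_)
    (fun n hn Y p t ht => hn Y (p ≫ Over.homMk c rfl) t ht)
  let q : Over.mk (pullback.fst p.left c ≫ Y.hom) ⟶ Y := Over.homMk (pullback.fst p.left c) rfl
  haveI : Flat q.left := MorphismProperty.pullback_fst _ _ ‹Flat c›
  have hsurj : Surjective (pullback.fst p.left c) := MorphismProperty.pullback_fst _ _ ‹Surjective c›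
  refine Kills.of_cover (A := AddSubgroup.zmultiples n) (I := PUnit) (fun _ => q)
    (fun x => ⟨⟨⟩, hsurj.surj x⟩) (fun _ => ?_) n (AddSubgroup.mem_zmultiples n)
  rintro _ ⟨k, rfl⟩
  have h1 := hn (Over.mk (pullback.fst p.left c ≫ Y.hom)) (Over.homMk (pullback.snd p.left c) (by
    show pullback.snd p.left c ≫ c ≫ j = pullback.fst p.left c ≫ Y.hom
    rw [← Category.assoc, ← pullback.condition, Category.assoc]
    exact congrArg (_ ≫ ·) (Over.w p))) (q ≫ t) (by rw [Category.assoc, ht, MonObj.comp_one])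
  show DSPts.char (q ≫ t) (Multiplicative.ofAdd (k • n)) = 1
  rw [ofAdd_zsmul]
  obtain ⟨m, rfl | rfl⟩ := Int.eq_nat_or_neg k
  · rw [zpow_natCast, map_pow, h1, one_pow]
  · have h2 := map_mul (DSPts.char (q ≫ t)) (Multiplicative.ofAdd n ^ (-(m : ℤ))) (Multiplicative.ofAdd n ^ (m : ℤ))
    rw [← zpow_add, neg_add_cancel, zpow_zero, map_one, zpow_natCast, map_pow, h1, one_pow, mul_one] at h2
    exact h2.symm

/-- The kernel is cut out by `A` over the set `U`. -/
def Good (U : Set S) (A : AddSubgroup N) : Prop :=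
  ∀ T : Over S, (∀ y, T.hom y ∈ U) → ∀ t : T ⟶ Red.DS S N, t ≫ u = 1 ↔ Kills A t

theorem killSub_eq {K : Type u} [Field K] (j : Spec (CommRingCat.of K) ⟶ S) (A : AddSubgroup N)
    (h : ∀ (Y : Over S) (_ : Y ⟶ Over.mk j) (t : Y ⟶ Red.DS S N), t ≫ u = 1 ↔ Kills A t) :
    killSub u j = A := by
  refine le_antisymm (fun n hn => ?_) (fun n hn Y p t ht => (h Y p t).1 ht n hn)
  let C : Type u := MonoidAlgebra K (Multiplicative (N ⧸ A))
  let c : Spec (CommRingCat.of C) ⟶ Spec (CommRingCat.of K) := Spec.map (CommRingCat.ofHom (algebraMap K C))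
  let χ : Multiplicative N →* Γ(Spec (CommRingCat.of C), ⊤) :=
    (Scheme.ΓSpecIso (CommRingCat.of C)).inv.hom.toMonoidHom.comp ((MonoidAlgebra.of K _).comp
      (AddMonoidHom.toMultiplicative (QuotientAddGroup.mk' A)))
  let t : Over.mk (c ≫ j) ⟶ Red.DS S N := DSPts.pt χ
  have hk : Kills A t := fun a ha => by
    rw [DSPts.char_pt]
    show (Scheme.ΓSpecIso (CommRingCat.of C)).inv.hom (MonoidAlgebra.of K _ (Multiplicative.ofAdd (QuotientAddGroup.mk' A a))) = 1
    rw [(QuotientAddGroup.eq_zero_iff a).2 ha |> fun e => show QuotientAddGroup.mk' A a = 0 from e, ofAdd_zero,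
      map_one, map_one]
  have h1 := hn (Over.mk (c ≫ j)) (Over.homMk c rfl) t ((h _ (Over.homMk c rfl) t).2 hk)
  rw [DSPts.char_pt] at h1
  have h2 : MonoidAlgebra.of K (Multiplicative (N ⧸ A)) (Multiplicative.ofAdd (QuotientAddGroup.mk' A n)) =
      MonoidAlgebra.of K (Multiplicative (N ⧸ A)) 1 := by
    rw [map_one]
    exact (ConcreteCategory.bijective_of_isIso (Scheme.ΓSpecIso (CommRingCat.of C)).inv).1
      (h1.trans (map_one _).symm)
  exact (QuotientAddGroup.eq_zero_iff n).1 (Multiplicative.ofAdd.injective (MonoidAlgebra.of_injective h2))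

theorem Good.unique {U U' : Set S} {A A' : AddSubgroup N} (h : Good u U A) (h' : Good u U' A') {s : S}
    (hs : s ∈ U) (hs' : s ∈ U') : A = A' := by
  have key : ∀ (Y : Over S), (Y ⟶ Over.mk (S.fromSpecResidueField s)) → ∀ y, Y.hom y = s := fun Y p y => by
    rw [← Over.w p, Scheme.Hom.comp_apply]
    exact Scheme.fromSpecResidueField_apply _ _
  rw [← killSub_eq u (S.fromSpecResidueField s) A fun Y p t => h Y (fun y => (key Y p y).symm ▸ hs) t,
    killSub_eq u (S.fromSpecResidueField s) A' fun Y p t => h' Y (fun y => (key Y p y).symm ▸ hs') t]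

/-- If the kernel is locally cut out by characters after a covering, it is so on the base. -/
theorem exists_good {S' : Scheme.{u}} (f : S' ⟶ S) [Flat f] (hf : Surjective f)
    (hqc : ∀ V : S.Opens, IsAffineOpen V → ∃ W : S'.Opens, IsCompact (W : Set S') ∧ f.base '' (W : Set S') = (V : Set S))
    (hloc : ∀ z : S', ∃ U : S'.Opens, z ∈ U ∧ ∃ A : AddSubgroup N, ∀ (T : Over S) (a : T ⟶ Over.mk f),
      (∀ y, a.left y ∈ U) → ∀ t : T ⟶ Red.DS S N, t ≫ u = 1 ↔ Kills A t) :
    ∀ s : S, ∃ U : S.Opens, s ∈ U ∧ ∃ A : AddSubgroup N, Good u U A := by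
  choose U hU A hA using hloc
  let K : S → AddSubgroup N := fun s => killSub u (S.fromSpecResidueField s)
  have hK : ∀ (z w : S'), w ∈ U z → K (f w) = A z := by
    intro z w hw
    let c := Spec.map (f.residueFieldMap w)
    have hc : c ≫ S.fromSpecResidueField (f w) = S'.fromSpecResidueField w ≫ f :=
      f.SpecMap_residueFieldMap_fromSpecResidueField w
    haveI : Flat c := (HasRingHomProperty.Spec_iff (P := @Flat)).2 (by
      letI := (f.residueFieldMap w).hom.toAlgebra
      exact (RingHom.flat_algebraMap_iff (R := S.residueField (f w)) (S := S'.residueField w)).2 inferInstance)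
    haveI : Surjective c :=
      ⟨fun x => ⟨IsLocalRing.closedPoint _, Subsingleton.elim (α := PrimeSpectrum (S.residueField (f w))) _ _⟩⟩
    show killSub u _ = _
    rw [← killSub_comp u _ c, hc]
    let π : Over.mk (S'.fromSpecResidueField w ≫ f) ⟶ Over.mk f := Over.homMk (S'.fromSpecResidueField w) rfl
    refine killSub_eq u (K := S'.residueField w) _ _ fun Y p t => hA z Y (p ≫ π) (fun y => ?_) t
    show S'.fromSpecResidueField w (p.left y) ∈ U z
    rw [Scheme.fromSpecResidueField_apply]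
    exact hw
  intro s
  have hopen : IsOpen (K ⁻¹' {K s}) := isOpen_of_preimage f hqc _ (isOpen_iff_forall_mem_open.2 fun z hz =>
    ⟨U z, fun w hw => by
      show K (f w) = K s
      rw [hK z w hw, ← hK z z (hU z)]
      exact hz, (U z).2, hU z⟩)
  refine ⟨⟨_, hopen⟩, rfl, K s, fun T hT t => ?_⟩
  let P := pullback T.hom f
  let pieces : P → P.Opens := fun w => (pullback.snd T.hom f) ⁻¹ᵁ U (pullback.snd T.hom f w)
  let Y : P → Over S := fun w => Over.mk ((pieces w).ι ≫ pullback.fst T.hom f ≫ T.hom)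
  let c : ∀ w, Y w ⟶ T := fun w => Over.homMk ((pieces w).ι ≫ pullback.fst T.hom f) (Category.assoc _ _ _)
  let a : ∀ w, Y w ⟶ Over.mk f := fun w => Over.homMk ((pieces w).ι ≫ pullback.snd T.hom f) (by
    show ((pieces w).ι ≫ pullback.snd T.hom f) ≫ f = _
    rw [Category.assoc, ← pullback.condition]; rfl)
  haveI : Flat (pullback.fst T.hom f) := MorphismProperty.pullback_fst _ _ ‹Flat f›
  haveI : ∀ w, Flat (c w).left := fun w => inferInstanceAs (Flat ((pieces w).ι ≫ pullback.fst T.hom f))
  have hc : ∀ x : T.left, ∃ w, x ∈ Set.range (c w).left := fun x => by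
    have : Surjective (pullback.fst T.hom f) := MorphismProperty.pullback_fst _ _ hf
    obtain ⟨w, hw⟩ := (pullback.fst T.hom f).surjective x
    exact ⟨w, ⟨w, hU _⟩, hw⟩
  have key : ∀ w, (c w ≫ t) ≫ u = 1 ↔ Kills (K s) (c w ≫ t) := fun w => by
    have e : A (pullback.snd T.hom f w) = K s := by
      rw [← hK _ _ (hU (pullback.snd T.hom f w))]
      have h1 := hT (pullback.fst T.hom f w)
      rw [← Scheme.Hom.comp_apply, pullback.condition, Scheme.Hom.comp_apply] at h1
      exact h1
    have h2 := hA (pullback.snd T.hom f w) (Y w) (a w) (fun y => y.2) (c w ≫ t)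
    rwa [e] at h2
  constructor
  · intro h
    exact Kills.of_cover c hc fun w => (key w).1 (by rw [Category.assoc, h, MonObj.comp_one])
  · intro h
    exact eq_of_cover c hc fun w => by
      rw [MonObj.comp_one, ← Category.assoc]
      exact (key w).2 (h.comp (c w))

/-- Over a connected base one subgroup works everywhere. -/
theorem exists_good_univ [ConnectedSpace S] (h : ∀ s : S, ∃ U : S.Opens, s ∈ U ∧ ∃ A, Good u U A) :
    ∃ A : AddSubgroup N, Good u Set.univ A := by
  choose U hU A hA using h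
  have hlc : IsLocallyConstant A := (IsLocallyConstant.iff_exists_open A).2 fun s =>
    ⟨U s, (U s).2, hU s, fun x hx => (hA x).unique u (hA s) (hU x) hx⟩
  obtain ⟨A₀, hA₀⟩ := hlc.exists_eq_const
  refine ⟨A₀, fun T _ t => ?_⟩
  let Y : S → Over S := fun s => Over.mk ((T.hom ⁻¹ᵁ U s).ι ≫ T.hom)
  let c : ∀ s, Y s ⟶ T := fun s => Over.homMk (T.hom ⁻¹ᵁ U s).ι rfl
  haveI : ∀ s, Flat (c s).left := fun s => inferInstanceAs (Flat (T.hom ⁻¹ᵁ U s).ι)
  have hc : ∀ x : T.left, ∃ s, x ∈ Set.range (c s).left := fun x => ⟨T.hom x, ⟨x, hU _⟩, rfl⟩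
  have key : ∀ s, (c s ≫ t) ≫ u = 1 ↔ Kills A₀ (c s ≫ t) := fun s => by
    have h2 := hA s (Y s) (fun y => y.2) (c s ≫ t)
    rwa [show A s = A₀ from congrFun hA₀ s] at h2
  constructor
  · intro h
    exact Kills.of_cover c hc fun s => (key s).1 (by rw [Category.assoc, h, MonObj.comp_one])
  · intro h
    exact eq_of_cover c hc fun s => by
      rw [MonObj.comp_one, ← Category.assoc]
      exact (key s).2 (h.comp (c s))

end Groth.L25.SplitSub
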