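import Groth.Agent.L25.SplitSub.QuotLocal
import Groth.Agent.L25.TrivLocus
import Groth.Agent.L08.SubgroupObj
import Groth.Agent.S5417
import Mathlib.RingTheory.FinitePresentation
import Mathlib.RingTheory.FiniteType

/-!
# The subtorus generated by two locally split subtori
-/

set_option autoImplicit false
universe u

open CategoryTheory CategoryTheory.Limits MonoidalCategory CartesianMonoidalCategory AlgebraicGeometry
open TopologicalSpace
open scoped MonObj

set_option backward.isDefEq.respectTransparency.types false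
set_option linter.style.haveILetI false

noncomputable section

namespace Groth.L25.SplitSub

variable {S : Scheme.{u}}

/-- `k` cuts out the kernel of `u`. -/
def IsKer {K E G : Over S} [GrpObj G] (k : K ⟶ E) (u : E ⟶ G) : Prop :=
  ∀ (T : Over S) (t : T ⟶ E), t ≫ u = 1 ↔ ∃ h : T ⟶ K, h ≫ k = t

theorem IsKer.bc {K E G : Over S} [GrpObj G] {k : K ⟶ E} {u : E ⟶ G} (h : IsKer k u)
    {U : Scheme.{u}} (g : U ⟶ S) : IsKer ((Over.pullback g).map k) ((Over.pullback g).map u) := fun T t => by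
  rw [← (toBase_injective g).eq_iff, toBase_map, NilAction.toBase_one, h]
  constructor
  · rintro ⟨x, hx⟩
    exact ⟨NilAction.ofBase g x, by rw [NilAction.ofBase_comp, hx, NilAction.ofBase_toBase]⟩
  · rintro ⟨x, rfl⟩
    exact ⟨NilAction.toBase g x, (toBase_map g k x).symm⟩

theorem flat_DS (S : Scheme.{u}) (M : Type) [AddCommGroup M] : Flat (Red.DS S M).hom := by
  have h1 : Flat (Red.diag (ULift.{u} ℤ) M).hom := by
    show Flat (Spec.map (CommRingCat.ofHom
      (algebraMap (ULift.{u} ℤ) (MonoidAlgebra (ULift.{u} ℤ) (Multiplicative M)))))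
    rw [HasRingHomProperty.Spec_iff (P := @Flat), CommRingCat.hom_ofHom, RingHom.flat_algebraMap_iff]
    infer_instance
  exact MorphismProperty.pullback_snd _ _ h1

theorem lfp_DS (S : Scheme.{u}) (r : ℕ) : LocallyOfFinitePresentation (Red.DS S (Fin r → ℤ)).hom := by
  let R := ULift.{u} ℤ
  let A := MonoidAlgebra R (Multiplicative (Fin r → ℤ))
  haveI : IsNoetherianRing R := isNoetherianRing_of_ringEquiv ℤ ULift.ringEquiv.symm
  haveI : Monoid.FG (Multiplicative (Fin r → ℤ)) :=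
    monoidFG_of_addGroupFG (Module.Finite.iff_addGroup_fg.1 inferInstance)
  have h1 : LocallyOfFinitePresentation (Red.diag R (Fin r → ℤ)).hom := by
    show LocallyOfFinitePresentation (Spec.map (CommRingCat.ofHom (algebraMap R A)))
    rw [HasRingHomProperty.Spec_iff (P := @LocallyOfFinitePresentation), CommRingCat.hom_ofHom,
      RingHom.finitePresentation_algebraMap]
    exact Algebra.FinitePresentation.of_finiteType.1 inferInstance
  exact MorphismProperty.pullback_snd _ _ h1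

/-- A property local on the base holds if it holds over a neighbourhood of every point. -/
theorem prop_of_local (P : MorphismProperty Scheme.{u}) [IsZariskiLocalAtTarget P] {X : Over S}
    (h : ∀ s : S, ∃ U : S.Opens, s ∈ U ∧ P (Red.bc U.ι X).hom) : P X.hom := by
  choose U hU hP using h
  refine (IsZariskiLocalAtTarget.iff_of_iSup_eq_top (P := P) U
    (top_le_iff.1 fun z _ => Opens.mem_iSup.2 ⟨z, hU z⟩)).2 fun s => ?_
  let e := (isPullback_morphismRestrict X.hom (U s)).flip.isoPullback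
  rw [show X.hom ∣_ U s = e.hom ≫ pullback.snd X.hom (U s).ι from
    ((isPullback_morphismRestrict X.hom (U s)).flip.isoPullback_hom_snd).symm]
  exact (P.cancel_left_of_respectsIso e.hom _).2 (hP s)

/-- The split group on the characters killed by `A`. -/
theorem kills_mk_iff {N : Type} [AddCommGroup N] (A : AddSubgroup N) {T : Over S} (t : T ⟶ Red.DS S N) :
    Kills A t ↔ ∃ x : T ⟶ Red.DS S (N ⧸ A), x ≫ Red.DSmap S (QuotientAddGroup.mk' A) = t := by
  constructor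
  · intro h
    let χ : Multiplicative (N ⧸ A) →* Γ(T.left, ⊤) :=
      AddMonoidHom.toMultiplicativeLeft (QuotientAddGroup.lift A (MonoidHom.toAdditiveRight (DSPts.char t))
        fun a ha => congrArg Additive.ofMul (h a ha))
    refine ⟨DSPts.pt χ, DSPts.char_injective (MonoidHom.ext fun n => ?_)⟩
    rw [char_DSmap, DSPts.char_pt]
    rfl
  · rintro ⟨x, rfl⟩ n hn
    rw [char_DSmap]
    show DSPts.char x (Multiplicative.ofAdd (QuotientAddGroup.mk' A n)) = 1
    rw [show QuotientAddGroup.mk' A n = 0 from (QuotientAddGroup.eq_zero_iff n).2 hn, ofAdd_zero, map_one]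

/-- Monomorphisms with the same points are isomorphic. -/
theorem exists_iso_of_points {W W' G : Over S} (j : W ⟶ G) (j' : W' ⟶ G) [Mono j] [Mono j']
    (h : ∀ (X : Over S) (g : X ⟶ G), (∃ z, z ≫ j = g) ↔ (∃ z, z ≫ j' = g)) :
    ∃ φ : W ≅ W', φ.hom ≫ j' = j := by
  obtain ⟨a, ha⟩ := (h W j).1 ⟨𝟙 W, Category.id_comp j⟩
  obtain ⟨b, hb⟩ := (h W' j').2 ⟨𝟙 W', Category.id_comp j'⟩
  exact ⟨⟨a, b, (cancel_mono j).1 (by rw [Category.assoc, hb, ha, Category.id_comp]),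
    (cancel_mono j').1 (by rw [Category.assoc, ha, hb, Category.id_comp])⟩, ha⟩

/-- The kernel of a homomorphism from a split torus into a group of multiplicative type is flat. -/
theorem flat_ker {N : Type} [AddCommGroup N] {E G K : Over S} [GrpObj E] [GrpObj G] (p : Red.DS S N ⟶ E)
    (hp : IsMonHom p) (hpi : IsIso p) (hG : SGA3x.IsMultTypeFT G) (u : E ⟶ G) [IsMonHom u] (k : K ⟶ E) [Mono k]
    (hk : IsKer k u) : Flat K.hom := by
  haveI : IsMonHom (p ≫ u) := isMonHom_comp hp ‹_›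
  haveI := hpi
  refine prop_of_local @Flat fun s => ?_
  obtain ⟨U, hs, A, hA⟩ := exists_good_of_multType hG (p ≫ u) s
  refine ⟨U, hs, ?_⟩
  let P : Red.DS U.toScheme N ⟶ Red.bc U.ι E := (bcDS U.ι).inv ≫ (Over.pullback U.ι).map p
  let kk : Red.bc U.ι K ⟶ Red.DS U.toScheme N := (Over.pullback U.ι).map k ≫ inv P
  haveI : Mono ((Over.pullback U.ι).map k) := inferInstance
  haveI : Mono kk := inferInstance
  haveI := mono_DSmap (S := U.toScheme) (QuotientAddGroup.mk' A) (QuotientAddGroup.mk'_surjective A)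
  obtain ⟨φ, -⟩ := exists_iso_of_points kk (Red.DSmap U.toScheme (QuotientAddGroup.mk' A)) fun X g => by
    have h1 := hA.restrict X (fun _ => Set.mem_univ _) g
    rw [Functor.map_comp, ← Category.assoc (bcDS U.ι).inv] at h1
    rw [← kills_mk_iff, ← h1]
    show (∃ z, z ≫ (Over.pullback U.ι).map k ≫ inv P = g) ↔ g ≫ P ≫ (Over.pullback U.ι).map u = 1
    rw [← Category.assoc g P, hk.bc U.ι X (g ≫ P)]
    exact exists_congr fun z => by rw [← Category.assoc, IsIso.comp_inv_eq]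
  haveI := flat_DS U.toScheme (N ⧸ A)
  haveI : IsIso φ.hom.left := (Over.forget _).map_isIso φ.hom
  rw [← Over.w φ.hom]
  infer_instance

/-- The image of a split torus is locally split. -/
theorem exists_nhd_split_image {r : ℕ} {E G Q : Over S} [GrpObj E] [GrpObj G] [GrpObj Q]
    (p : Red.DS S (Fin r → ℤ) ⟶ E) (hp : IsMonHom p) (hpi : IsIso p) (hG : SGA3x.IsMultTypeFT G)
    (q : E ⟶ Q) [IsMonHom q] (hfl : Flat q.left) (hsurj : Surjective q.left)
    (hfp : LocallyOfFinitePresentation q.left) (m : Q ⟶ G) [IsMonHom m] [Mono m] (s : S) :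
    ∃ U : S.Opens, s ∈ U ∧ ∃ r' ≤ r, Red.IsSplitTorusWith (Fin r' → ℤ) (Red.bc U.ι Q) := by
  haveI : IsMonHom (q ≫ m) := isMonHom_comp ‹_› ‹_›
  haveI hpq : IsMonHom (p ≫ q) := isMonHom_comp hp ‹_›
  haveI : IsMonHom (p ≫ q ≫ m) := isMonHom_comp hp ‹_›
  haveI := hpi
  haveI := hfl
  haveI := hsurj
  haveI := hfp
  obtain ⟨U, hs, A, hA⟩ := exists_good_of_multType hG (p ≫ q ≫ m) s
  let q' : Red.DS U.toScheme (Fin r → ℤ) ⟶ Red.bc U.ι Q :=
    (bcDS U.ι).inv ≫ (Over.pullback U.ι).map (p ≫ q)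
  haveI : IsMonHom q' :=
    isMonHom_comp (isMonHom_inv _ (isMonHom_bcDS (N := Fin r → ℤ) U.ι)) (isMonHom_map U.ι (p ≫ q))
  haveI : Mono ((Over.pullback U.ι).map m) := inferInstance
  have hgood : Good q' Set.univ A := fun T hT t => by
    haveI := isMonHom_map U.ι m
    rw [← hA.restrict T hT t, ← cancel_mono ((Over.pullback U.ι).map m), MonObj.one_comp]
    simp only [q', Category.assoc, Functor.map_comp]
  haveI : IsIso p.left := (Over.forget _).map_isIso p
  haveI : IsIso (bcDS (N := Fin r → ℤ) U.ι).inv.left := (Over.forget _).map_isIso _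
  have hq' : q'.left = (bcDS U.ι).inv.left ≫ ((Over.pullback U.ι).map (p ≫ q)).left := rfl
  haveI : Flat ((Over.pullback U.ι).map (p ≫ q)).left :=
    MorphismProperty.overPullbackMap (P := @Flat) _ _ (inferInstanceAs (Flat (p.left ≫ q.left)))
  haveI : Surjective ((Over.pullback U.ι).map (p ≫ q)).left :=
    MorphismProperty.overPullbackMap (P := @Surjective) _ _ (inferInstanceAs (Surjective (p.left ≫ q.left)))
  haveI : LocallyOfFinitePresentation ((Over.pullback U.ι).map (p ≫ q)).left :=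
    MorphismProperty.overPullbackMap (P := @LocallyOfFinitePresentation) _ _
      (inferInstanceAs (LocallyOfFinitePresentation (p.left ≫ q.left)))
  obtain ⟨v, hv, hvi⟩ := exists_iso_quot q' (by rw [hq']; infer_instance) (by rw [hq']; infer_instance)
    (by rw [hq']; infer_instance) hgood
  obtain ⟨r', hr', h⟩ := exists_split_of_iso v hv hvi
  exact ⟨U, hs, r', hr', h⟩

/-- The product of two split tori is split. -/
theorem exists_split_tensor {E₁ E₂ : Over S} [GrpObj E₁] [GrpObj E₂] {r₁ r₂ : ℕ}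
    (h₁ : Red.IsSplitTorusWith (Fin r₁ → ℤ) E₁) (h₂ : Red.IsSplitTorusWith (Fin r₂ → ℤ) E₂) :
    ∃ p : Red.DS S (Fin (r₁ + r₂) → ℤ) ⟶ E₁ ⊗ E₂, IsMonHom p ∧ IsIso p := by
  obtain ⟨p₁, p₁', hp₁, -, h11, h11', -⟩ := exists_std h₁
  obtain ⟨p₂, p₂', hp₂, -, h22, h22', -⟩ := exists_std h₂
  let N₁ := Fin r₁ → ℤ
  let N₂ := Fin r₂ → ℤ
  let e : (N₁ × N₂) ≃+ (Fin (r₁ + r₂) → ℤ) :=
    ((LinearEquiv.sumArrowLequivProdArrow (Fin r₁) (Fin r₂) ℤ ℤ).symm.trans
      (LinearEquiv.funCongrLeft ℤ ℤ finSumFinEquiv.symm)).toAddEquiv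
  let a := Red.DSmap S e.toAddMonoidHom
  haveI : IsMonHom a := Groth.L25.TorusTorsion.isMonHom_DSmap S _
  haveI : IsIso a := (mapIso e).isIso_hom
  let c₁ := Red.DSmap S (AddMonoidHom.inl N₁ N₂)
  let c₂ := Red.DSmap S (AddMonoidHom.inr N₁ N₂)
  haveI : IsMonHom c₁ := Groth.L25.TorusTorsion.isMonHom_DSmap S _
  haveI : IsMonHom c₂ := Groth.L25.TorusTorsion.isMonHom_DSmap S _
  let w : Red.DS S (N₁ × N₂) ⟶ E₁ ⊗ E₂ := lift (c₁ ≫ p₁) (c₂ ≫ p₂)
  let w' : E₁ ⊗ E₂ ⟶ Red.DS S (N₁ × N₂) :=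
    (fst E₁ E₂ ≫ p₁' ≫ Red.DSmap S (AddMonoidHom.fst N₁ N₂)) *
      (snd E₁ E₂ ≫ p₂' ≫ Red.DSmap S (AddMonoidHom.snd N₁ N₂))
  have hw₁ : w ≫ fst E₁ E₂ = c₁ ≫ p₁ := lift_fst _ _
  have hw₂ : w ≫ snd E₁ E₂ = c₂ ≫ p₂ := lift_snd _ _
  have hww : w ≫ w' = 𝟙 _ := by
    refine DSPts.char_injective (MonoidHom.ext fun n => ?_)
    simp only [w', MonObj.comp_mul, reassoc_of% hw₁, reassoc_of% hw₂, reassoc_of% h11, reassoc_of% h22]
    rw [DSPts.char_mul, MonoidHom.mul_apply]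
    simp only [c₁, c₂, ← Category.assoc, TorusTorsion.DSmap_comp]
    rw [← Category.id_comp (Red.DSmap S ((AddMonoidHom.inl N₁ N₂).comp _)),
      ← Category.id_comp (Red.DSmap S ((AddMonoidHom.inr N₁ N₂).comp _)), char_DSmap, char_DSmap]
    show DSPts.char (𝟙 (Red.DS S (N₁ × N₂))) (Multiplicative.ofAdd ((n.toAdd.1, 0) : N₁ × N₂)) *
      DSPts.char (𝟙 (Red.DS S (N₁ × N₂))) (Multiplicative.ofAdd ((0, n.toAdd.2) : N₁ × N₂)) = _
    rw [← map_mul, ← ofAdd_add, Prod.mk_add_mk, add_zero, zero_add]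
    rfl
  have hww' : w' ≫ w = 𝟙 _ := by
    have hinj₁ : ∀ (x : E₁ ⊗ E₂ ⟶ Red.DS S N₁) (y : E₁ ⊗ E₂ ⟶ Red.DS S N₂),
        ((x ≫ Red.DSmap S (AddMonoidHom.fst N₁ N₂)) * (y ≫ Red.DSmap S (AddMonoidHom.snd N₁ N₂))) ≫ c₁ = x ∧
        ((x ≫ Red.DSmap S (AddMonoidHom.fst N₁ N₂)) * (y ≫ Red.DSmap S (AddMonoidHom.snd N₁ N₂))) ≫ c₂ = y := by
      intro x y
      constructor
      · refine DSPts.char_injective (MonoidHom.ext fun n => ?_)
        rw [char_DSmap, MonoidHom.comp_apply, DSPts.char_mul, MonoidHom.mul_apply, char_DSmap, char_DSmap]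
        show DSPts.char x n * DSPts.char y (Multiplicative.ofAdd 0) = _
        rw [ofAdd_zero, map_one, _root_.mul_one]
      · refine DSPts.char_injective (MonoidHom.ext fun n => ?_)
        rw [char_DSmap, MonoidHom.comp_apply, DSPts.char_mul, MonoidHom.mul_apply, char_DSmap, char_DSmap]
        show DSPts.char x (Multiplicative.ofAdd 0) * DSPts.char y n = _
        rw [ofAdd_zero, map_one, _root_.one_mul]
    obtain ⟨e₁, e₂⟩ := hinj₁ (fst E₁ E₂ ≫ p₁') (snd E₁ E₂ ≫ p₂')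
    simp only [Category.assoc] at e₁ e₂
    apply CartesianMonoidalCategory.hom_ext
    · rw [Category.assoc, hw₁, Category.id_comp, ← Category.assoc, e₁, Category.assoc, h11', Category.comp_id]
    · rw [Category.assoc, hw₂, Category.id_comp, ← Category.assoc, e₂, Category.assoc, h22', Category.comp_id]
  have hw : IsMonHom w := by
    haveI := hp₁
    haveI := hp₂
    refine isMonHom_of_mul w fun T x y => ?_
    apply CartesianMonoidalCategory.hom_ext
    · rw [MonObj.mul_comp (x ≫ w) (y ≫ w) (fst E₁ E₂), Category.assoc, Category.assoc, Category.assoc, hw₁,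
        MonObj.mul_comp x y (c₁ ≫ p₁)]
    · rw [MonObj.mul_comp (x ≫ w) (y ≫ w) (snd E₁ E₂), Category.assoc, Category.assoc, Category.assoc, hw₂,
        MonObj.mul_comp x y (c₂ ≫ p₂)]
  haveI : IsIso w := ⟨w', hww, hww'⟩
  exact ⟨a ≫ w, isMonHom_comp ‹IsMonHom a› hw, inferInstance⟩

/-- A kernel with its group structure. -/
theorem exists_kernel {E G : Over S} [GrpObj E] [GrpObj G] (u : E ⟶ G) [IsMonHom u] :
    ∃ (K : Over S) (_ : GrpObj K) (k : K ⟶ E), IsMonHom k ∧ Mono k ∧ IsKer k u ∧ AlgGrp.IsKernel k u := by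
  let K : Over S := Over.mk (pullback.fst u.left η[G].left ≫ E.hom)
  let k : K ⟶ E := Over.homMk (pullback.fst u.left η[G].left) rfl
  haveI : IsSplitMono η[G].left := IsSplitMono.mk' ⟨G.hom, GrpBasics.unit_comp_hom G⟩
  haveI : Mono η[G].left := inferInstance
  haveI : Mono k.left := inferInstanceAs (Mono (pullback.fst u.left η[G].left))
  haveI : Mono k := Over.mono_of_mono_left k
  have hk : IsKer k u := fun T t => by
    rw [TrivLocus.comp_eq_one_iff]
    constructor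
    · rintro ⟨w, hw⟩
      exact ⟨Over.homMk w (by
        show w ≫ pullback.fst u.left η[G].left ≫ E.hom = T.hom
        rw [← Category.assoc, hw, Over.w t]), Over.OverMorphism.ext hw⟩
    · rintro ⟨h, rfl⟩
      exact ⟨h.left, rfl⟩
  have hku : k ≫ u = 1 := (hk K k).2 ⟨𝟙 K, Category.id_comp _⟩
  obtain ⟨z₁, hz₁⟩ := (hk _ η[E]).1 (by rw [IsMonHom.one_hom u, Hom.one_def, toUnit_unique (toUnit _) (𝟙 _), Category.id_comp])
  obtain ⟨z₂, hz₂⟩ := (hk _ ((fst K K ≫ k) * (snd K K ≫ k))).1 (by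
    rw [MonObj.mul_comp, Category.assoc, Category.assoc, hku, MonObj.comp_one, MonObj.comp_one, _root_.one_mul])
  obtain ⟨z₃, hz₃⟩ := (hk _ k⁻¹).1 (by rw [GrpObj.inv_comp, hku, inv_one])
  obtain ⟨gK, hkm⟩ := Groth.L08.exists_grpObj_of_mono k ⟨z₁, hz₁⟩ ⟨z₂, hz₂⟩ ⟨z₃, hz₃⟩
  refine ⟨K, gK, k, hkm, ‹_›, hk, ?_⟩
  refine IsPullback.of_isLimit (PullbackCone.IsLimit.mk (by rw [hku, Hom.one_def]; exact congrArg (· ≫ η[G]) (toUnit_unique _ _))
    (fun c => ((hk c.pt c.fst).1 (by rw [c.condition, Hom.one_def, toUnit_unique c.snd (toUnit _)])).choose)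
    (fun c => ((hk c.pt c.fst).1 (by rw [c.condition, Hom.one_def, toUnit_unique c.snd (toUnit _)])).choose_spec)
    (fun c => toUnit_unique _ _) fun c m h1 _ => ?_)
  rw [← cancel_mono k, h1]
  exact (((hk c.pt c.fst).1 (by rw [c.condition, Hom.one_def, toUnit_unique c.snd (toUnit _)])).choose_spec).symm

/-- Two locally split subtori lie in a third one, which is their image. -/
theorem exists_join {G E₁ E₂ : Over S} [GrpObj G] [GrpObj E₁] [GrpObj E₂] (hG : SGA3x.IsMultTypeFT G)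
    (j₁ : E₁ ⟶ G) [IsMonHom j₁] (j₂ : E₂ ⟶ G) [IsMonHom j₂]
    (h₁ : ∀ s : S, ∃ U : S.Opens, s ∈ U ∧ ∃ r : ℕ, Red.IsSplitTorusWith (Fin r → ℤ) (Red.bc U.ι E₁))
    (h₂ : ∀ s : S, ∃ U : S.Opens, s ∈ U ∧ ∃ r : ℕ, Red.IsSplitTorusWith (Fin r → ℤ) (Red.bc U.ι E₂)) :
    ∃ (E₃ : Over S) (_ : GrpObj E₃) (j₃ : E₃ ⟶ G) (g₁ : E₁ ⟶ E₃) (g₂ : E₂ ⟶ E₃), IsMonHom j₃ ∧ Mono j₃ ∧
      IsMonHom g₁ ∧ IsMonHom g₂ ∧
      (∀ s : S, ∃ U : S.Opens, s ∈ U ∧ ∃ r : ℕ, Red.IsSplitTorusWith (Fin r → ℤ) (Red.bc U.ι E₃)) ∧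
      g₁ ≫ j₃ = j₁ ∧ g₂ ≫ j₃ = j₂ := by
  let E := E₁ ⊗ E₂
  let u : E ⟶ G := (fst E₁ E₂ ≫ j₁) * (snd E₁ E₂ ≫ j₂)
  haveI : IsMonHom u := isMonHom_of_mul u fun T a b => by
    simp only [u, MonObj.comp_mul, ← Category.assoc]
    rw [MonObj.mul_comp a b (fst E₁ E₂), MonObj.mul_comp a b (snd E₁ E₂), MonObj.mul_comp, MonObj.mul_comp,
      _root_.mul_assoc, _root_.mul_assoc]
    congr 1
    rw [← _root_.mul_assoc, Central.mul_comm_of_multTypeFT hG ((b ≫ fst E₁ E₂) ≫ j₁), _root_.mul_assoc]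
  have hloc : ∀ s : S, ∃ V : S.Opens, s ∈ V ∧ ∃ (r : ℕ) (p : Red.DS V.toScheme (Fin r → ℤ) ⟶ Red.bc V.ι E),
      IsMonHom p ∧ IsIso p := by
    intro s
    obtain ⟨U₁, hs₁, r₁, hr₁⟩ := h₁ s
    obtain ⟨U₂, hs₂, r₂, hr₂⟩ := h₂ s
    let V := U₁ ⊓ U₂
    have res : ∀ {W : S.Opens} (hVW : V ≤ W) {X : Over S} [GrpObj X] {r : ℕ},
        Red.IsSplitTorusWith (Fin r → ℤ) (Red.bc W.ι X) → Red.IsSplitTorusWith (Fin r → ℤ) (Red.bc V.ι X) := by
      intro W hVW X _ r hr
      obtain ⟨e⟩ := hr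
      exact ⟨TrivLocus.restrictIso W.ι (S.homOfLE hVW) e (Scheme.homOfLE_ι _ _)⟩
    obtain ⟨p, hp, hpi⟩ := exists_split_tensor (res inf_le_left hr₁) (res inf_le_right hr₂)
    let w : Red.bc V.ι E ⟶ Red.bc V.ι E₁ ⊗ Red.bc V.ι E₂ :=
      lift ((Over.pullback V.ι).map (fst E₁ E₂)) ((Over.pullback V.ι).map (snd E₁ E₂))
    haveI : IsIso w := (Functor.Monoidal.μIso (Over.pullback V.ι) E₁ E₂).isIso_inv
    have hw : IsMonHom w := by
      haveI h1 := isMonHom_map V.ι (fst E₁ E₂)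
      haveI h2 := isMonHom_map V.ι (snd E₁ E₂)
      refine isMonHom_of_mul w fun T a b => ?_
      apply CartesianMonoidalCategory.hom_ext
      · rw [MonObj.mul_comp (a ≫ w) (b ≫ w) (fst _ _), Category.assoc, Category.assoc, Category.assoc]
        simp only [w, lift_fst]
        exact MonObj.mul_comp a b _
      · rw [MonObj.mul_comp (a ≫ w) (b ≫ w) (snd _ _), Category.assoc, Category.assoc, Category.assoc]
        simp only [w, lift_snd]
        exact MonObj.mul_comp a b _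
    haveI := hpi
    exact ⟨V, ⟨hs₁, hs₂⟩, r₁ + r₂, p ≫ inv w,
      isMonHom_comp hp (isMonHom_inv (asIso w) hw), inferInstance⟩
  obtain ⟨K, gK, k, hkm, hkmono, hk, hkk⟩ := exists_kernel u
  haveI := hkm
  haveI := hkmono
  haveI : Flat K.hom := prop_of_local @Flat fun s => by
    obtain ⟨V, hs, r, p, hp, hpi⟩ := hloc s
    haveI := isMonHom_map V.ι u
    haveI : Mono ((Over.pullback V.ι).map k) := inferInstance
    exact ⟨V, hs, flat_ker p hp hpi (MultTypeBC.isMultTypeFT_bc hG V.ι) ((Over.pullback V.ι).map u)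
      ((Over.pullback V.ι).map k) (hk.bc V.ι)⟩
  haveI : LocallyOfFinitePresentation E.hom := prop_of_local @LocallyOfFinitePresentation fun s => by
    obtain ⟨V, hs, r, p, hp, hpi⟩ := hloc s
    haveI := hpi
    refine ⟨V, hs, ?_⟩
    haveI := lfp_DS V.toScheme r
    haveI : IsIso (inv p).left := (Over.forget _).map_isIso (inv p)
    rw [← Over.w (inv p)]
    infer_instance
  obtain ⟨Q, gQ, q, hqm, ⟨hqs, hqf, hqp, -⟩, -, m, hmm, hmono, hqm'⟩ :=
    Groth.Agent.S5417.result S E G (Or.inl (TrivLocus.lft_of_multTypeFT hG)) u K k hkk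
  haveI := hqm
  haveI := hmm
  haveI := hmono
  let i₁ : E₁ ⟶ E := lift (𝟙 E₁) 1
  let i₂ : E₂ ⟶ E := lift 1 (𝟙 E₂)
  have hi : ∀ {X : Over S} [GrpObj X] (i : X ⟶ E) (a : IsMonHom (i ≫ fst E₁ E₂)) (b : IsMonHom (i ≫ snd E₁ E₂)),
      IsMonHom i := fun {X} _ i a b => isMonHom_of_mul i fun T x y => by
    apply CartesianMonoidalCategory.hom_ext
    · rw [MonObj.mul_comp (x ≫ i) (y ≫ i) (fst E₁ E₂), Category.assoc, Category.assoc, Category.assoc]
      exact @MonObj.mul_comp _ _ _ _ _ _ _ _ x y _ a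
    · rw [MonObj.mul_comp (x ≫ i) (y ≫ i) (snd E₁ E₂), Category.assoc, Category.assoc, Category.assoc]
      exact @MonObj.mul_comp _ _ _ _ _ _ _ _ x y _ b
  have h1 : ∀ (X Y : Over S) [GrpObj X] [GrpObj Y], IsMonHom (1 : X ⟶ Y) := fun X Y _ _ =>
    isMonHom_of_mul _ fun T a b => by rw [MonObj.comp_one, MonObj.comp_one, MonObj.comp_one, _root_.one_mul]
  have hid : ∀ (X : Over S) [GrpObj X], IsMonHom (𝟙 X) := fun X _ => inferInstance
  have hi₁ : IsMonHom i₁ := hi i₁ (by rw [lift_fst]; exact hid _) (by rw [lift_snd]; exact h1 _ _)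
  have hi₂ : IsMonHom i₂ := hi i₂ (by rw [lift_fst]; exact h1 _ _) (by rw [lift_snd]; exact hid _)
  refine ⟨Q, gQ, m, i₁ ≫ q, i₂ ≫ q, hmm, hmono, isMonHom_comp hi₁ hqm, isMonHom_comp hi₂ hqm, fun s => ?_, ?_, ?_⟩
  · obtain ⟨V, hs, r, p, hp, hpi⟩ := hloc s
    haveI := isMonHom_map V.ι q
    haveI := isMonHom_map V.ι m
    haveI : Mono ((Over.pullback V.ι).map m) := inferInstance
    obtain ⟨U, hU, r', -, hr'⟩ := exists_nhd_split_image p hp hpi (MultTypeBC.isMultTypeFT_bc hG V.ι)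
      ((Over.pullback V.ι).map q) (MorphismProperty.overPullbackMap (P := @Flat) _ _ hqf)
      (MorphismProperty.overPullbackMap (P := @Surjective) _ _ hqs)
      (MorphismProperty.overPullbackMap (P := @LocallyOfFinitePresentation) _ _ hqp)
      ((Over.pullback V.ι).map m) ⟨s, hs⟩
    exact ⟨V.ι ''ᵁ U, ⟨⟨s, hs⟩, hU, rfl⟩, r',
      isSplit_image V.ι (V.ι.isoImage U).inv (Scheme.Hom.isoImage_inv_ι _ _) hr'⟩
  · rw [Category.assoc, hqm']
    simp only [i₁, u, MonObj.comp_mul, lift_fst_assoc, lift_snd_assoc, Category.id_comp, MonObj.one_comp,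
      _root_.mul_one]
  · rw [Category.assoc, hqm']
    simp only [i₂, u, MonObj.comp_mul, lift_fst_assoc, lift_snd_assoc, Category.id_comp, MonObj.one_comp,
      _root_.one_mul]

end Groth.L25.SplitSub
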