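import Groth.Agent.L25.SplitSub.Image
import Groth.Agent.L25.TrivLocus
import Mathlib.LinearAlgebra.Basis.VectorSpace
import Mathlib.RingTheory.TensorProduct.Basic

/-!
# The kernel of a homomorphism out of a split group over an affine base

It is cut out by an ideal of the group algebra; over a field it is cut out by characters.
-/

set_option autoImplicit false
universe u

open CategoryTheory CategoryTheory.Limits MonoidalCategory CartesianMonoidalCategory AlgebraicGeometry
open TensorProduct
open scoped MonObj

set_option backward.isDefEq.respectTransparency.types false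
set_option linter.style.haveILetI false

noncomputable section

namespace Groth.L25.SplitSub

open Cocycle

variable {R : Type u} [CommRing R] {N : Type} [AddCommGroup N] {G : Over (Spec (CommRingCat.of R))} [GrpObj G]

/-- the chart of the split group over the affine base itself -/
abbrev idChart (R : Type u) [CommRing R] (N : Type) [AddCommGroup N] :=
  stdChart (𝟙 (Spec (CommRingCat.of R))) N

/-- evaluation at a character -/
abbrev evalAt {C : Type u} [CommRing C] [Algebra R C] (χ : Multiplicative N →* C) :
    MonoidAlgebra R (Multiplicative N) →ₐ[R] C :=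
  MonoidAlgebra.lift R C (Multiplicative N) χ

/-- The kernel is cut out by an ideal of the group algebra, finitely generated if `G` is of finite type. -/
theorem exists_ideal [IsSeparated G.hom] [LocallyOfFiniteType G.hom] (u : Red.DS (Spec (CommRingCat.of R)) N ⟶ G) :
    ∃ I : Ideal (MonoidAlgebra R (Multiplicative N)), I.FG ∧
      ∀ (C : Type u) [CommRing C] [Algebra R C] (χ : Multiplicative N →* C),
        (idChart R N).pt χ ≫ u = 1 ↔ ∀ x ∈ I, evalAt χ x = 0 := by
  let A := MonoidAlgebra R (Multiplicative N)
  let t₀ : X (𝟙 _) A ⟶ Red.DS (Spec (CommRingCat.of R)) N := (idChart R N).pt (MonoidAlgebra.of R (Multiplicative N))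
  have : IsClosedImmersion η[G].left := TrivLocus.isClosedImmersion_one
  have : LocallyOfFinitePresentation η[G].left := TrivLocus.lfp_one
  let p := pullback.fst (t₀ ≫ u).left η[G].left
  have : IsClosedImmersion p := MorphismProperty.pullback_fst _ _ ‹IsClosedImmersion η[G].left›
  have hp : LocallyOfFinitePresentation p := MorphismProperty.pullback_fst _ _ ‹LocallyOfFinitePresentation η[G].left›
  obtain ⟨I, ε, hε⟩ := (IsClosedImmersion.Spec_iff (R := CommRingCat.of A) (f := p)).1 ‹_›
  have hI : I.FG := by
    have h1 : LocallyOfFinitePresentation (ε.inv ≫ p) := inferInstance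
    rw [hε, Iso.inv_hom_id_assoc, HasRingHomProperty.Spec_iff (P := @LocallyOfFinitePresentation)] at h1
    have : Algebra.FinitePresentation A (A ⧸ I) := RingHom.finitePresentation_algebraMap.1 h1
    have h2 := Algebra.FinitePresentation.ker_fG_of_surjective (Ideal.Quotient.mkₐ A I)
      (Ideal.Quotient.mkₐ_surjective A I)
    have e1 : RingHom.ker (Ideal.Quotient.mkₐ A I).toRingHom = I := Ideal.mk_ker
    exact e1 ▸ h2
  refine ⟨I, hI, fun C _ _ χ => ?_⟩
  have hnat : mor (𝟙 _) (evalAt χ) ≫ t₀ = (idChart R N).pt χ := by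
    rw [(idChart R N).nat]
    congr 1
    exact MonoidHom.ext fun m => MonoidAlgebra.lift_of _ m
  have hone : ∀ (Y : Over (Spec (CommRingCat.of R))), (1 : Y ⟶ G).left = Y.hom ≫ η[G].left := fun Y =>
    MonoFibres.one_left
  rw [← hnat, Category.assoc, ← (Over.forget _).map_injective.eq_iff, Over.forget_map, Over.forget_map,
    Over.comp_left, hone]
  show Spec.map (CommRingCat.ofHom (evalAt χ).toRingHom) ≫ (t₀ ≫ u).left = _ ↔ _
  constructor
  · intro h x hx
    let w' := pullback.lift (Spec.map (CommRingCat.ofHom (evalAt χ).toRingHom)) _ h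
    obtain ⟨ψ, hψ⟩ := Spec.map_surjective (w' ≫ ε.hom)
    have h1 : CommRingCat.ofHom (Ideal.Quotient.mk I) ≫ ψ = CommRingCat.ofHom (evalAt χ).toRingHom := by
      apply Spec.map_injective
      rw [Spec.map_comp, hψ, Category.assoc, ← hε]
      exact pullback.lift_fst _ _ _
    have h2 := congrArg (fun m => m.hom x) h1
    simp only [CommRingCat.hom_comp, CommRingCat.hom_ofHom, RingHom.comp_apply,
      Ideal.Quotient.eq_zero_iff_mem.2 hx, map_zero] at h2
    exact h2.symm
  · intro h
    let ψ := Ideal.Quotient.lift I (evalAt χ).toRingHom h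
    have h1 : Spec.map (CommRingCat.ofHom (evalAt χ).toRingHom) =
        (Spec.map (CommRingCat.ofHom ψ) ≫ ε.inv) ≫ p := by
      rw [hε, Category.assoc, Iso.inv_hom_id_assoc, ← Spec.map_comp, ← CommRingCat.ofHom_comp,
        Ideal.Quotient.lift_comp_mk]
    have h2 := Over.w (mor (𝟙 (Spec (CommRingCat.of R))) (evalAt χ) ≫ t₀ ≫ u)
    simp only [Over.comp_left] at h2
    have h3 : Spec.map (CommRingCat.ofHom (evalAt χ).toRingHom) ≫ (t₀ ≫ u).left =
        ((Spec.map (CommRingCat.ofHom ψ) ≫ ε.inv) ≫ pullback.snd (t₀ ≫ u).left η[G].left) ≫ η[G].left := by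
      rw [h1, Category.assoc, pullback.condition, Category.assoc, Category.assoc, Category.assoc]
    change (Spec.map (CommRingCat.ofHom (evalAt χ).toRingHom) ≫ (t₀ ≫ u).left) ≫ G.hom = _ at h2
    rw [h3] at h2 ⊢
    rw [Category.assoc, show η[G].left ≫ G.hom = 𝟙 _ from GrpBasics.unit_comp_hom G, Category.comp_id] at h2
    rw [h2]

/-- Over an affine base finitely many characters suffice to force a point into the kernel. -/
theorem exists_fg_bound [IsSeparated G.hom] [LocallyOfFiniteType G.hom]
    (u : Red.DS (Spec (CommRingCat.of R)) N ⟶ G) [IsMonHom u] :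
    ∃ A : AddSubgroup N, A.FG ∧ ∀ (C : Type u) [CommRing C] [Algebra R C] (χ : Multiplicative N →* C),
      (∀ n ∈ A, χ (Multiplicative.ofAdd n) = 1) → (idChart R N).pt χ ≫ u = 1 := by
  classical
  obtain ⟨I, ⟨s, hs⟩, hI⟩ := exists_ideal u
  let t : Finset N := s.biUnion fun x => x.coeff.support.image Multiplicative.toAdd
  refine ⟨AddSubgroup.closure (t : Set N), ⟨t, rfl⟩, fun C _ _ χ hχ => (hI C χ).2 ?_⟩
  have h1 : ((idChart R N).pt (1 : Multiplicative N →* C)) ≫ u = 1 := by
    rw [show (idChart R N).pt (1 : Multiplicative N →* C) = 1 from DSPts.char_injective (by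
      simp only [idChart, stdChart, DSPts.char_pt, DSPts.char_one]
      exact MonoidHom.ext fun m => by simp), MonObj.one_comp]
  have h0 := (hI C 1).1 h1
  intro x hx
  rw [← hs] at hx
  have hle : Ideal.span (s : Set (MonoidAlgebra R (Multiplicative N))) ≤ RingHom.ker (evalAt χ) := by
    rw [Ideal.span_le]
    intro y hy
    have hy0 := h0 y (hs ▸ Ideal.subset_span hy)
    show evalAt χ y = 0
    rw [← hy0, evalAt, evalAt, MonoidAlgebra.lift_apply, MonoidAlgebra.lift_apply]
    refine Finsupp.sum_congr fun m hm => ?_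
    have hm' : χ m = 1 := hχ m.toAdd (AddSubgroup.subset_closure
      (Finset.mem_biUnion.2 ⟨y, hy, Finset.mem_image_of_mem _ hm⟩))
    rw [hm', MonoidHom.one_apply]
  exact hle hx

/-- distinct elements with diagonal comultiplication are linearly independent -/
theorem linearIndependent_diag {k A : Type u} [Field k] [CommRing A] [Algebra k A]
    (Δ : A →ₗ[k] A ⊗[k] A) (s : Finset A) (hΔ : ∀ a ∈ s, Δ a = a ⊗ₜ a ∧ a ≠ 0) :
    LinearIndependent k (fun a : (s : Set A) => (a : A)) := by
  classical
  induction s using Finset.induction_on with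
  | empty =>
    haveI : IsEmpty ((∅ : Finset A) : Set A) := by simp
    exact linearIndependent_empty_type
  | insert a₀ s ha₀ ih =>
    have ih' : LinearIndepOn k id (s : Set A) := ih fun a ha => hΔ a (Finset.mem_insert_of_mem ha)
    change LinearIndepOn k id ((insert a₀ s : Finset A) : Set A)
    rw [Finset.coe_insert, linearIndepOn_id_insert (by exact_mod_cast ha₀)]
    refine ⟨ih', fun hmem => ?_⟩
    obtain ⟨c, hc⟩ := Submodule.mem_span_finset'.1 hmem
    have h1 : Δ a₀ = ∑ a : s, c a • Δ (a : A) := by rw [← hc, map_sum]; simp only [map_smul]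
    rw [(hΔ a₀ (Finset.mem_insert_self _ _)).1] at h1
    have h2 : ∑ a : s, c a • ((a₀ - (a : A)) ⊗ₜ[k] (a : A)) = 0 := by
      simp only [sub_tmul, smul_sub, Finset.sum_sub_distrib]
      rw [sub_eq_zero]
      calc ∑ a : s, c a • (a₀ ⊗ₜ[k] (a : A)) = a₀ ⊗ₜ[k] (∑ a : s, c a • (a : A)) := by
            rw [tmul_sum]; simp only [tmul_smul]
        _ = a₀ ⊗ₜ[k] a₀ := by rw [hc]
        _ = ∑ a : s, c a • ((a : A) ⊗ₜ[k] (a : A)) := by
            rw [h1]
            exact Finset.sum_congr rfl fun a _ => by rw [(hΔ _ (Finset.mem_insert_of_mem a.2)).1]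
    have hzero : ∀ b : s, c b = 0 := by
      intro b
      let B := Module.Basis.extend ih'
      let φ : A →ₗ[k] k := B.coord ⟨(b : A), Module.Basis.subset_extend ih' b.2⟩
      have hφ : ∀ a : s, φ (a : A) = if a = b then 1 else 0 := fun a => by
        have e : (a : A) = B ⟨(a : A), Module.Basis.subset_extend ih' a.2⟩ :=
          (Module.Basis.extend_apply_self ih' ⟨(a : A), Module.Basis.subset_extend ih' a.2⟩).symm
        show B.coord _ (a : A) = _
        conv_lhs => rw [e]
        rw [Module.Basis.coord_apply, Module.Basis.repr_self, Finsupp.single_apply]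
        simp only [Subtype.ext_iff]
      have h3 := congrArg ((TensorProduct.rid k A).toLinearMap ∘ₗ LinearMap.lTensor A φ) h2
      simp only [map_sum, map_smul, map_zero, LinearMap.comp_apply, LinearMap.lTensor_tmul,
        LinearEquiv.coe_coe, TensorProduct.rid_tmul, hφ, ite_smul, one_smul, zero_smul, smul_ite, smul_zero,
        Finset.sum_ite_eq', Finset.mem_univ, if_true] at h3
      exact (smul_eq_zero.1 h3).resolve_right (sub_ne_zero.2 fun e => ha₀ (e ▸ b.2))
    exact (hΔ a₀ (Finset.mem_insert_self _ _)).2 (by simp [← hc, hzero])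

end Groth.L25.SplitSub
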