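import Groth.Agent.L25.SplitSub.Quot
import Groth.Agent.L25.SplitSub.Greatest

/-!
# Quotients of locally split tori
-/

set_option autoImplicit false
universe u

open CategoryTheory CategoryTheory.Limits MonoidalCategory CartesianMonoidalCategory AlgebraicGeometry
open TopologicalSpace
open scoped MonObj

set_option backward.isDefEq.respectTransparency.types false
set_option linter.style.haveILetI false

noncomputable section

namespace Groth.L25.SplitSub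

variable {S : Scheme.{u}}

theorem isMonHom_map {U : Scheme.{u}} (g : U ⟶ S) {X Y : Over S} [GrpObj X] [GrpObj Y] (f : X ⟶ Y) [IsMonHom f] :
    IsMonHom ((Over.pullback g).map f) :=
  ((Over.pullback g).mapGrp.map (Grp.homMk'' (A := Grp.mk X) (B := Grp.mk Y) f
    (IsMonHom.one_hom f) (IsMonHom.mul_hom f))).hom.isMonHom_hom

theorem isMonHom_comp {X Y Z : Over S} [GrpObj X] [GrpObj Y] [GrpObj Z] {a : X ⟶ Y} {b : Y ⟶ Z}
    (ha : IsMonHom a) (hb : IsMonHom b) : IsMonHom (a ≫ b) := inferInstance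

theorem isMonHom_inv {X Y : Over S} [GrpObj X] [GrpObj Y] (e : X ≅ Y) (h : IsMonHom e.hom) : IsMonHom e.inv :=
  inferInstance

/-- A group isomorphic to the split group on a subgroup of `ℤ^r` is split of rank at most `r`. -/
theorem exists_split_of_iso {r : ℕ} {Q : Over S} [GrpObj Q] {A : AddSubgroup (Fin r → ℤ)} (v : Red.DS S A ⟶ Q)
    (hv : IsMonHom v) (hvi : IsIso v) : ∃ r' ≤ r, Red.IsSplitTorusWith (Fin r' → ℤ) Q := by
  obtain ⟨r', hr', ⟨e⟩⟩ := exists_basis_subgroup A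
  haveI : IsMonHom (mapIso (S := S) e).hom := Groth.L25.TorusTorsion.isMonHom_DSmap S _
  haveI := hv
  haveI := hvi
  haveI : IsMonHom (asIso v).symm.hom := isMonHom_inv (asIso v) hv
  exact ⟨r', hr', ⟨Grp.mkIso' (asIso v).symm ≪≫ Grp.mkIso' (mapIso e)⟩⟩

/-- A splitting over an open of an open is a splitting over the open. -/
theorem isSplit_image {U : Scheme.{u}} (g : U ⟶ S) {V : U.Opens} {W : Scheme.{u}} (k : W ⟶ V.toScheme) {d : W ⟶ S}
    (hd : k ≫ V.ι ≫ g = d) {Q : Over S} [GrpObj Q] {M : Type} [AddCommGroup M]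
    (h : Red.IsSplitTorusWith M (Red.bc V.ι (Red.bc g Q))) : Red.IsSplitTorusWith M (Red.bc d Q) := by
  obtain ⟨e⟩ := h
  let B := ActBC.bcCompIso V.ι g Q rfl
  haveI : IsMonHom B.symm.hom := isMonHom_inv B inferInstance
  exact ⟨TrivLocus.restrictIso (V.ι ≫ g) k (Grp.mkIso' B.symm ≪≫ e) hd⟩

/-- Near every point the quotient of a split torus is split. -/
theorem exists_nhd_split {T H Q : Over S} [GrpObj T] [GrpObj H] [GrpObj Q] {r : ℕ}
    (hT : Red.IsSplitTorusWith (Fin r → ℤ) T) (hH : SGA3x.IsMultTypeFT H) (i : H ⟶ T) [IsMonHom i] [Mono i]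
    (q : T ⟶ Q) [IsMonHom q] (hq : IsQuot i q) (s : S) :
    ∃ U : S.Opens, s ∈ U ∧ ∃ r' ≤ r, Red.IsSplitTorusWith (Fin r' → ℤ) (Red.bc U.ι Q) := by
  obtain ⟨p, p', hp, hp', hpp', hp'p, -⟩ := exists_std hT
  let e : Red.DS S (Fin r → ℤ) ≅ T := ⟨p, p', hpp', hp'p⟩
  haveI : IsMonHom (i ≫ e.inv) := isMonHom_comp ‹_› hp'
  haveI : IsMonHom (e.hom ≫ q) := isMonHom_comp hp ‹_›
  haveI : IsIso p' := ⟨p, hp'p, hpp'⟩
  haveI : Mono (i ≫ e.inv) := @mono_comp _ _ _ _ _ i ‹_› e.inv (inferInstanceAs (Mono p'))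
  haveI : Monoid.FG (Multiplicative (Fin r → ℤ)) :=
    monoidFG_of_addGroupFG (Module.Finite.iff_addGroup_fg.1 inferInstance)
  obtain ⟨U, hs, A, hA⟩ := exists_good_of_kernel hH (i ≫ e.inv) (e.hom ≫ q) (hq.iso_comp e) s
  obtain ⟨h1, h2, h3, -⟩ := ((hq.iso_comp e).bc U.ι).iso_comp (bcDS (N := Fin r → ℤ) U.ι).symm
  haveI : IsMonHom ((bcDS (N := Fin r → ℤ) U.ι).inv ≫ (Over.pullback U.ι).map (e.hom ≫ q)) :=
    isMonHom_comp (isMonHom_inv _ (isMonHom_bcDS U.ι)) (isMonHom_map U.ι (e.hom ≫ q))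
  obtain ⟨v, hv, hvi⟩ := @exists_iso_quot _ _ _ _ _ _
    (isMonHom_comp (isMonHom_inv _ (isMonHom_bcDS (N := Fin r → ℤ) U.ι)) (isMonHom_map U.ι (e.hom ≫ q))) h1 h2 h3 _ hA.restrict
  obtain ⟨r', hr', hr''⟩ := exists_split_of_iso v hv hvi
  exact ⟨U, hs, r', hr', hr''⟩

/-- Near every point the quotient of a locally split torus is split. -/
theorem exists_nhd_split' {T H Q : Over S} [GrpObj T] [GrpObj H] [GrpObj Q] (hH : SGA3x.IsMultTypeFT H)
    (i : H ⟶ T) [IsMonHom i] [Mono i] (q : T ⟶ Q) [IsMonHom q] (hq : IsQuot i q) (s : S)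
    (hT : ∃ U : S.Opens, s ∈ U ∧ ∃ r : ℕ, Red.IsSplitTorusWith (Fin r → ℤ) (Red.bc U.ι T)) :
    ∃ U : S.Opens, s ∈ U ∧ ∃ r : ℕ, Red.IsSplitTorusWith (Fin r → ℤ) (Red.bc U.ι Q) := by
  obtain ⟨V, hsV, r, hr⟩ := hT
  haveI := isMonHom_map V.ι i
  haveI := isMonHom_map V.ι q
  haveI : Mono ((Over.pullback V.ι).map i) := inferInstance
  obtain ⟨U, hU, r', -, hr'⟩ := exists_nhd_split hr (MultTypeBC.isMultTypeFT_bc hH V.ι)
    ((Over.pullback V.ι).map i) ((Over.pullback V.ι).map q) (hq.bc V.ι) ⟨s, hsV⟩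
  refine ⟨V.ι ''ᵁ U, ⟨⟨s, hsV⟩, hU, rfl⟩, r', isSplit_image V.ι (V.ι.isoImage U).inv ?_ hr'⟩
  exact Scheme.Hom.isoImage_inv_ι _ _

end Groth.L25.SplitSub
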