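import Groth.Agent.L25.SplitSub.Image
import Groth.Agent.L25.Central
import Mathlib.LinearAlgebra.FreeModule.PID
import Mathlib.LinearAlgebra.Dimension.Finite
import Mathlib.GroupTheory.Finiteness
import Mathlib.RingTheory.Finiteness.Cardinality

/-!
# Split subtori of a group of multiplicative type
-/

set_option autoImplicit false
universe u

open CategoryTheory CategoryTheory.Limits MonoidalCategory CartesianMonoidalCategory AlgebraicGeometry
open TopologicalSpace
open scoped MonObj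

set_option backward.isDefEq.respectTransparency.types false
set_option linter.style.haveILetI false

noncomputable section

namespace Groth.L25.SplitSub

variable {S : Scheme.{u}} {N : Type} [AddCommGroup N] {G : Over S} [GrpObj G]

theorem monoidFG_of_addGroupFG {M : Type} [AddCommGroup M] (h : AddGroup.FG M) : Monoid.FG (Multiplicative M) :=
  AddMonoid.fg_iff_mul_fg.1 (AddGroup.fg_iff_addMonoid_fg.1 h)

/-- The kernel of a homomorphism from a split group into a group of multiplicative type is locally cut out by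
characters. -/
theorem exists_good_of_multType (hG : SGA3x.IsMultTypeFT G) (u : Red.DS S N ⟶ G) [IsMonHom u] :
    ∀ s : S, ∃ U : S.Opens, s ∈ U ∧ ∃ A : AddSubgroup N, Good u U A := by
  obtain ⟨S', f, hf, hsurj, hqc, hloc⟩ := hG
  haveI := hf
  refine exists_good u f hsurj hqc fun z => ?_
  obtain ⟨V, hzV, M, _, hfg, ⟨e⟩⟩ := hloc z
  haveI := monoidFG_of_addGroupFG hfg
  obtain ⟨U, hzU, φ, h⟩ := exists_chart u f V e hzV
  exact ⟨U, hzU, φ.range, h⟩

/-- The number of generators of the characters bounds the rank of split subtori. -/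
theorem exists_rank_bound (hG : SGA3x.IsMultTypeFT G) (hne : Nonempty S) :
    ∃ b : ℕ, ∀ (r : ℕ) (j : Red.DS S (Fin r → ℤ) ⟶ G) [IsMonHom j] [Mono j], r ≤ b := by
  obtain ⟨S', f, hf, hsurj, hqc, hloc⟩ := hG
  obtain ⟨z, -⟩ := hsurj.surj hne.some
  obtain ⟨V, hzV, M, _, hfg, ⟨e⟩⟩ := hloc z
  haveI := monoidFG_of_addGroupFG hfg
  haveI : Module.Finite ℤ M := Module.Finite.iff_addGroup_fg.2 hfg
  obtain ⟨n, ψ, hψ⟩ := Module.Finite.exists_fin' ℤ M
  refine ⟨n, fun r j _ _ => ?_⟩
  obtain ⟨U, hzU, φ, h⟩ := exists_chart j f V e hzV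
  let q := S'.fromSpecResidueField z
  have key : ∀ (Y : Over S) (_ : Y ⟶ Over.mk (q ≫ f)) (t : Y ⟶ Red.DS S (Fin r → ℤ)),
      t ≫ j = 1 ↔ Kills φ.range t := fun Y p t => by
    let π : Over.mk (q ≫ f) ⟶ Over.mk f := Over.homMk q rfl
    refine h Y (p ≫ π) (fun y => ?_) t
    show q (p.left y) ∈ U
    rw [Scheme.fromSpecResidueField_apply]
    exact hzU
  have key' : ∀ (Y : Over S) (_ : Y ⟶ Over.mk (q ≫ f)) (t : Y ⟶ Red.DS S (Fin r → ℤ)),
      t ≫ j = 1 ↔ Kills ⊤ t := fun Y _ t => by rw [kills_top_iff, ← cancel_mono j, MonObj.one_comp]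
  have hrange : φ.range = ⊤ := by
    rw [← killSub_eq j (K := S'.residueField z) (q ≫ f) _ key, killSub_eq j (K := S'.residueField z) (q ≫ f) _ key']
  have hsur : Function.Surjective (φ.toIntLinearMap ∘ₗ ψ) :=
    (AddMonoidHom.range_eq_top.1 hrange).comp hψ
  have := LinearMap.finrank_range_le (φ.toIntLinearMap ∘ₗ ψ)
  rwa [LinearMap.range_eq_top.2 hsur, finrank_top, Module.finrank_fin_fun, Module.finrank_fin_fun] at this

/-- A subgroup of `ℤ^r` is free of rank at most `r`. -/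
theorem exists_basis_subgroup {r : ℕ} (A : AddSubgroup (Fin r → ℤ)) :
    ∃ r' ≤ r, Nonempty ((Fin r' → ℤ) ≃+ A) := by
  let P := AddSubgroup.toIntSubmodule A
  obtain ⟨n, b⟩ := Submodule.basisOfPid (Pi.basisFun ℤ (Fin r)) P
  refine ⟨n, ?_, ⟨b.equivFun.symm.toAddEquiv⟩⟩
  have h1 := Submodule.finrank_le P
  rwa [Module.finrank_eq_card_basis b, Fintype.card_fin, Module.finrank_fin_fun] at h1

theorem DSmap_iso_comp {M : Type} [AddCommGroup M] (e : M ≃+ N) :
    Red.DSmap S e.toAddMonoidHom ≫ Red.DSmap S e.symm.toAddMonoidHom = 𝟙 (Red.DS S N) := by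
  rw [Groth.L25.TorusTorsion.DSmap_comp,
    show e.toAddMonoidHom.comp e.symm.toAddMonoidHom = AddMonoidHom.id N from
      AddMonoidHom.ext e.apply_symm_apply, Groth.L25.TorusTorsion.DSmap_id]

/-- An isomorphism of characters gives one of split groups. -/
def mapIso {M : Type} [AddCommGroup M] (e : M ≃+ N) : Red.DS S N ≅ Red.DS S M where
  hom := Red.DSmap S e.toAddMonoidHom
  inv := Red.DSmap S e.symm.toAddMonoidHom
  hom_inv_id := DSmap_iso_comp e
  inv_hom_id := DSmap_iso_comp e.symm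

/-- The image of a split torus. -/
theorem exists_image {r : ℕ} (u : Red.DS S (Fin r → ℤ) ⟶ G) [IsMonHom u] {A : AddSubgroup (Fin r → ℤ)}
    (h : Good u Set.univ A) :
    ∃ (r' : ℕ) (g : Red.DS S (Fin r → ℤ) ⟶ Red.DS S (Fin r' → ℤ)) (j : Red.DS S (Fin r' → ℤ) ⟶ G),
      r' ≤ r ∧ IsMonHom g ∧ IsMonHom j ∧ Mono j ∧ g ≫ j = u := by
  obtain ⟨v, hvm, hvmono, hv⟩ := exists_factor u h
  obtain ⟨r', hr', ⟨e⟩⟩ := exists_basis_subgroup A
  haveI := hvm
  haveI := hvmono
  let π := incl S A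
  haveI : IsMonHom π := isMonHom_incl A
  let a : Red.DS S A ⟶ Red.DS S (Fin r' → ℤ) := Red.DSmap S e.toAddMonoidHom
  let b : Red.DS S (Fin r' → ℤ) ⟶ Red.DS S A := Red.DSmap S e.symm.toAddMonoidHom
  haveI : IsMonHom a := Groth.L25.TorusTorsion.isMonHom_DSmap S _
  haveI : IsMonHom b := Groth.L25.TorusTorsion.isMonHom_DSmap S _
  haveI : IsIso b := (mapIso e).isIso_inv
  refine ⟨r', π ≫ a, b ≫ v, hr', inferInstance, inferInstance, inferInstance, ?_⟩
  rw [Category.assoc, ← Category.assoc a b v, DSmap_iso_comp e, Category.id_comp, hv]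

/-- The product of two homomorphisms from split groups. -/
theorem exists_prod {N' : Type} [AddCommGroup N'] (hcomm : ∀ (Y : Over S) (a b : Y ⟶ G), a * b = b * a)
    (u₁ : Red.DS S N ⟶ G) (u₂ : Red.DS S N' ⟶ G) [IsMonHom u₁] [IsMonHom u₂] :
    ∃ u : Red.DS S (N × N') ⟶ G, IsMonHom u ∧ Red.DSmap S (AddMonoidHom.fst N N') ≫ u = u₁ ∧
      Red.DSmap S (AddMonoidHom.snd N N') ≫ u = u₂ := by
  let p₁ := Red.DSmap S (AddMonoidHom.inl N N')
  let p₂ := Red.DSmap S (AddMonoidHom.inr N N')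
  haveI : IsMonHom p₁ := Groth.L25.TorusTorsion.isMonHom_DSmap S _
  haveI : IsMonHom p₂ := Groth.L25.TorusTorsion.isMonHom_DSmap S _
  have h0 : ∀ {M M' : Type} [AddCommGroup M] [AddCommGroup M'],
      Red.DSmap S (0 : M →+ M') = (1 : Red.DS S M' ⟶ Red.DS S M) := fun {M M'} _ _ => by
    apply DSPts.char_injective
    rw [← Category.id_comp (Red.DSmap S _), char_DSmap, DSPts.char_one]
    exact MonoidHom.ext fun m => map_one (DSPts.char (𝟙 (Red.DS S M')))
  refine ⟨(p₁ ≫ u₁) * (p₂ ≫ u₂), isMonHom_of_mul _ fun T a b => ?_, ?_, ?_⟩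
  · rw [MonObj.comp_mul, MonObj.comp_mul, MonObj.comp_mul, MonObj.mul_comp a b (p₁ ≫ u₁),
      MonObj.mul_comp a b (p₂ ≫ u₂), mul_assoc, mul_assoc]
    congr 1
    rw [← mul_assoc, hcomm T (b ≫ p₁ ≫ u₁), mul_assoc]
  · rw [MonObj.comp_mul, ← Category.assoc, ← Category.assoc, Groth.L25.TorusTorsion.DSmap_comp,
      Groth.L25.TorusTorsion.DSmap_comp, AddMonoidHom.fst_comp_inl,
      show (AddMonoidHom.fst N N').comp (AddMonoidHom.inr N N') = 0 from AddMonoidHom.ext fun _ => rfl,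
      Groth.L25.TorusTorsion.DSmap_id, h0, Category.id_comp, MonObj.one_comp, mul_one]
  · rw [MonObj.comp_mul, ← Category.assoc, ← Category.assoc, Groth.L25.TorusTorsion.DSmap_comp,
      Groth.L25.TorusTorsion.DSmap_comp, AddMonoidHom.snd_comp_inr,
      show (AddMonoidHom.snd N N').comp (AddMonoidHom.inl N N') = 0 from AddMonoidHom.ext fun _ => rfl,
      Groth.L25.TorusTorsion.DSmap_id, h0, Category.id_comp, MonObj.one_comp, one_mul]

/-- A monomorphism which locally has a section is an isomorphism. -/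
theorem isIso_of_mono_of_local_lift {X Y : Over S} (u : X ⟶ Y) [Mono u]
    (h : ∀ y : Y.left, ∃ W : Y.left.Opens, y ∈ W ∧ ∃ b : Over.mk (W.ι ≫ Y.hom) ⟶ X, b.left ≫ u.left = W.ι) :
    IsIso u := by
  choose W hW b hb using h
  haveI : Mono u.left := Over.mono_left_of_mono u
  suffices IsIso u.left from
    have : IsIso ((Over.forget S).map u) := this
    isIso_of_reflects_iso _ (Over.forget S)
  refine (IsZariskiLocalAtTarget.iff_of_iSup_eq_top (P := MorphismProperty.isomorphisms Scheme) W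
    (top_le_iff.1 fun z _ => Opens.mem_iSup.2 ⟨z, hW z⟩)).2 fun y => ?_
  show IsIso (u.left ∣_ W y)
  let σ := (isPullback_morphismRestrict u.left (W y)).lift (𝟙 _) (b y).left
    (by rw [Category.id_comp, hb])
  have h1 : σ ≫ u.left ∣_ W y = 𝟙 _ := IsPullback.lift_fst _ _ _ _
  haveI : Mono (u.left ∣_ W y) := MorphismProperty.of_isPullback (P := MorphismProperty.monomorphisms Scheme)
    (isPullback_morphismRestrict u.left (W y)).flip ‹Mono u.left›
  exact ⟨σ, by rw [← cancel_mono (u.left ∣_ W y), Category.assoc, h1, Category.comp_id, Category.id_comp], h1⟩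

/-- A monomorphism of split tori into one of smaller rank is an isomorphism. -/
theorem isIso_of_mono_split {r r' : ℕ} (h : r' ≤ r) (u : Red.DS S (Fin r → ℤ) ⟶ Red.DS S (Fin r' → ℤ))
    [IsMonHom u] [Mono u] : IsIso u := by
  haveI : Monoid.FG (Multiplicative (Fin r' → ℤ)) :=
    monoidFG_of_addGroupFG (Module.Finite.iff_addGroup_fg.1 inferInstance)
  refine isIso_of_mono_of_local_lift u fun y => ?_
  obtain ⟨U, hU, φ, hφ⟩ := exists_local_DSmap u ((Red.DS S (Fin r' → ℤ)).hom y)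
  have hgood : Good u U φ.range := fun T hT t => by rw [hφ T hT t, kills_range_iff]
  have htop := Good.eq_top u hgood hU
  have hsurj : Function.Surjective φ := AddMonoidHom.range_eq_top.1 htop
  have hle := LinearMap.finrank_range_le φ.toIntLinearMap
  rw [LinearMap.range_eq_top.2 hsurj, finrank_top, Module.finrank_fin_fun, Module.finrank_fin_fun] at hle
  obtain rfl : r = r' := le_antisymm hle h
  have hbij : Function.Bijective φ :=
    ⟨(OrzechProperty.injective_of_surjective_endomorphism φ.toIntLinearMap hsurj), hsurj⟩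
  let e : (Fin r → ℤ) ≃+ (Fin r → ℤ) := AddEquiv.ofBijective φ hbij
  let W : (Red.DS S (Fin r → ℤ)).left.Opens := (Red.DS S (Fin r → ℤ)).hom ⁻¹ᵁ U
  let T : Over S := Over.mk (W.ι ≫ (Red.DS S (Fin r → ℤ)).hom)
  let i : T ⟶ Red.DS S (Fin r → ℤ) := Over.homMk W.ι rfl
  refine ⟨W, hU, i ≫ Red.DSmap S e.symm.toAddMonoidHom, ?_⟩
  have h2 := hφ T (fun w => w.2) (i ≫ Red.DSmap S e.symm.toAddMonoidHom)
  rw [show φ = e.toAddMonoidHom from rfl, Category.assoc i _ (Red.DSmap S e.toAddMonoidHom),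
    show Red.DSmap S e.symm.toAddMonoidHom ≫ Red.DSmap S e.toAddMonoidHom = 𝟙 _ from DSmap_iso_comp e.symm,
    Category.comp_id] at h2
  exact congrArg (fun m => m.left) h2

end Groth.L25.SplitSub
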